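import Mathlib
import Cfsg.Agent.Lib.Helper5.GLBN.Pair

/-!
# The symplectic group as the fixed points of an involution of `GL_{2m}(F)` (helper8)

The alternating form is antidiagonal: `J i j = ε i` if `j = rev i`, with `ε = 1` on the first half
and `-1` on the second.  `sigma g = J⁻¹ (g⁻¹)ᵀ J`; its fixed points are the symplectic group.
-/

set_option autoImplicit false

namespace Cfsg.Agent.Lib.Helper8.SpBN

open Matrix Cfsg Cfsg.Agent.Lib.Helper5.GLBN
open scoped MatrixGroups

variable {m : ℕ} {F : Type*} [Field F]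

/-- the signs of the antidiagonal alternating form -/
def eps (m : ℕ) (F : Type*) [Field F] (i : Fin (2 * m)) : F := if (i : ℕ) < m then 1 else -1

theorem eps_mul_self (i : Fin (2 * m)) : eps m F i * eps m F i = 1 := by
  unfold eps; split_ifs <;> simp

theorem eps_rev (i : Fin (2 * m)) : eps m F i.rev = - eps m F i := by
  unfold eps
  have hv : ((i.rev : Fin (2 * m)) : ℕ) = 2 * m - (i + 1) := Fin.val_rev i
  have hi := i.2
  by_cases h : (i : ℕ) < m
  · rw [if_pos h, if_neg (by omega)]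
  · rw [if_neg h, if_pos (by omega), neg_neg]

theorem eps_ne_zero (i : Fin (2 * m)) : eps m F i ≠ 0 := by
  intro h
  have := eps_mul_self (F := F) i
  rw [h, mul_zero] at this
  exact zero_ne_one this

theorem eps_eq_of_lt {i j : Fin (2 * m)} (hi : (i : ℕ) < m) (hj : (j : ℕ) < m) :
    eps m F i = eps m F j := by
  unfold eps; rw [if_pos hi, if_pos hj]

theorem rev_ne_self (i : Fin (2 * m)) : i.rev ≠ i := by
  intro h
  have hv : ((i.rev : Fin (2 * m)) : ℕ) = 2 * m - (i + 1) := Fin.val_rev i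
  have := congrArg Fin.val h
  have hi := i.2
  omega

theorem revPerm_inv : (Fin.revPerm : Equiv.Perm (Fin (2 * m)))⁻¹ = Fin.revPerm := by
  ext i
  rw [Equiv.Perm.inv_def, Fin.revPerm_symm]

/-- the antidiagonal form -/
def Jm (m : ℕ) (F : Type*) [Field F] : Matrix (Fin (2 * m)) (Fin (2 * m)) F :=
  fun i j => if i = j.rev then eps m F i else 0

theorem isMono_Jm : IsMono (Jm m F) Fin.revPerm := by
  intro i j h
  unfold Jm
  rw [if_neg]
  simpa using h

theorem isMono_neg_Jm : IsMono (-Jm m F) Fin.revPerm := by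
  intro i j h
  rw [Matrix.neg_apply, isMono_Jm i j h, neg_zero]

theorem Jm_rev_apply (i : Fin (2 * m)) : Jm m F i.rev i = - eps m F i := by
  unfold Jm
  rw [if_pos rfl, eps_rev]

theorem Jm_apply_rev (i : Fin (2 * m)) : Jm m F i i.rev = eps m F i := by
  unfold Jm
  rw [if_pos (Fin.rev_rev i).symm]

theorem Jm_mul_Jm : Jm m F * Jm m F = -1 := by
  ext i j
  rw [isMono_Jm.mul_apply, Fin.revPerm_apply, Jm_rev_apply, Matrix.neg_apply, Matrix.one_apply]
  unfold Jm
  rw [Fin.rev_rev]
  by_cases h : i = j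
  · subst h
    rw [if_pos rfl, if_pos rfl, mul_neg, eps_mul_self]
  · rw [if_neg h, if_neg h, zero_mul, neg_zero]

/-- the form as an element of the general linear group -/
def JG (m : ℕ) (F : Type*) [Field F] : GL (Fin (2 * m)) F :=
  ⟨Jm m F, -Jm m F, by rw [Matrix.mul_neg, Jm_mul_Jm, neg_neg],
    by rw [Matrix.neg_mul, Jm_mul_Jm, neg_neg]⟩

theorem JG_coe : ((JG m F : GL (Fin (2 * m)) F) : Matrix (Fin (2 * m)) (Fin (2 * m)) F) = Jm m F :=
  rfl

theorem JG_inv_coe :
    (((JG m F)⁻¹ : GL (Fin (2 * m)) F) : Matrix (Fin (2 * m)) (Fin (2 * m)) F) = -Jm m F := rfl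

/-- inverse transpose -/
def invT {n : ℕ} (g : GL (Fin n) F) : GL (Fin n) F :=
  ⟨((g⁻¹ : GL (Fin n) F) : Matrix (Fin n) (Fin n) F)ᵀ, (g : Matrix (Fin n) (Fin n) F)ᵀ,
    by rw [← Matrix.transpose_mul, ← Units.val_mul, mul_inv_cancel, Units.val_one,
      Matrix.transpose_one],
    by rw [← Matrix.transpose_mul, ← Units.val_mul, inv_mul_cancel, Units.val_one,
      Matrix.transpose_one]⟩

theorem invT_coe {n : ℕ} (g : GL (Fin n) F) :
    ((invT g : GL (Fin n) F) : Matrix (Fin n) (Fin n) F)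
      = ((g⁻¹ : GL (Fin n) F) : Matrix (Fin n) (Fin n) F)ᵀ := rfl

theorem invT_mul {n : ℕ} (g h : GL (Fin n) F) : invT (g * h) = invT g * invT h := by
  apply Units.ext
  rw [Units.val_mul, invT_coe, invT_coe, invT_coe, _root_.mul_inv_rev, Units.val_mul,
    Matrix.transpose_mul]

theorem invT_one {n : ℕ} : invT (1 : GL (Fin n) F) = 1 := by
  apply Units.ext
  rw [invT_coe, inv_one, Units.val_one, Matrix.transpose_one]

/-- the involution whose fixed points form the symplectic group -/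
def sigma (m : ℕ) (F : Type*) [Field F] : GL (Fin (2 * m)) F →* GL (Fin (2 * m)) F where
  toFun g := (JG m F)⁻¹ * invT g * JG m F
  map_one' := by rw [invT_one, mul_one, inv_mul_cancel]
  map_mul' g h := by rw [invT_mul]; group

theorem sigma_def (g : GL (Fin (2 * m)) F) : sigma m F g = (JG m F)⁻¹ * invT g * JG m F := rfl

theorem sigma_apply (g : GL (Fin (2 * m)) F) (a b : Fin (2 * m)) :
    ((sigma m F g : GL (Fin (2 * m)) F) : Matrix (Fin (2 * m)) (Fin (2 * m)) F) a b
      = eps m F a * eps m F b *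
        ((g⁻¹ : GL (Fin (2 * m)) F) : Matrix (Fin (2 * m)) (Fin (2 * m)) F) b.rev a.rev := by
  rw [sigma_def, Units.val_mul, Units.val_mul, JG_coe, JG_inv_coe, isMono_Jm.mul_apply,
    isMono_neg_Jm.apply_mul, revPerm_inv, Fin.revPerm_apply, Fin.revPerm_apply, Matrix.neg_apply,
    Jm_apply_rev, Jm_rev_apply, invT_coe, Matrix.transpose_apply]
  ring

theorem sigma_sigma (g : GL (Fin (2 * m)) F) : sigma m F (sigma m F g) = g := by
  apply Units.ext
  ext a b
  rw [sigma_apply, ← map_inv, sigma_apply, inv_inv, Fin.rev_rev, Fin.rev_rev, eps_rev, eps_rev]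
  have h1 := eps_mul_self (F := F) a
  have h2 := eps_mul_self (F := F) b
  calc eps m F a * eps m F b * (-eps m F b * -eps m F a *
        (g : Matrix (Fin (2 * m)) (Fin (2 * m)) F) a b)
      = (eps m F a * eps m F a) * (eps m F b * eps m F b) *
        (g : Matrix (Fin (2 * m)) (Fin (2 * m)) F) a b := by ring
    _ = _ := by rw [h1, h2, one_mul, one_mul]

theorem sigma_mem_upper {g : GL (Fin (2 * m)) F} (hg : g ∈ upperTriangularGL (2 * m) F) :
    sigma m F g ∈ upperTriangularGL (2 * m) F := by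
  rw [mem_upper]
  intro a b hba
  rw [sigma_apply, (mem_upper.1 (inv_mem hg)) b.rev a.rev (Fin.rev_lt_rev.2 hba), mul_zero]

theorem sigma_isMono {g : GL (Fin (2 * m)) F} {π : Equiv.Perm (Fin (2 * m))}
    (hg : IsMono (g : Matrix (Fin (2 * m)) (Fin (2 * m)) F) π) :
    IsMono ((sigma m F g : GL (Fin (2 * m)) F) : Matrix (Fin (2 * m)) (Fin (2 * m)) F)
      (Fin.revPerm * π * Fin.revPerm) := by
  intro a b hab
  rw [sigma_apply, hg.inv b.rev a.rev, mul_zero]
  intro h
  apply hab
  rw [Equiv.Perm.mul_apply, Equiv.Perm.mul_apply, Fin.revPerm_apply, Fin.revPerm_apply, h]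
  simp

theorem sigma_mem_monoN {g : GL (Fin (2 * m)) F} (hg : g ∈ monoN (2 * m) F) :
    sigma m F g ∈ monoN (2 * m) F := by
  obtain ⟨π, hπ⟩ := hg
  exact ⟨_, sigma_isMono hπ⟩

/-- the symplectic group -/
def SpH (m : ℕ) (F : Type*) [Field F] : Subgroup (GL (Fin (2 * m)) F) :=
  (sigma m F).eqLocus (MonoidHom.id _)

theorem mem_SpH {g : GL (Fin (2 * m)) F} : g ∈ SpH m F ↔ sigma m F g = g := Iff.rfl

theorem sym_mem_SpH (x : GL (Fin (2 * m)) F) (h : x * sigma m F x = sigma m F x * x) :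
    x * sigma m F x ∈ SpH m F := by
  rw [mem_SpH, map_mul, sigma_sigma, h]

theorem sigma_mem_SpH {g : GL (Fin (2 * m)) F} (hg : g ∈ SpH m F) : sigma m F g = g := hg

/-- the image of a transvection -/
theorem sigma_tv (a b : Fin (2 * m)) (hab : a ≠ b) (c : F) :
    sigma m F (tv a b hab c) =
      tv b.rev a.rev (fun h => hab (Fin.rev_injective h).symm) (-(eps m F a * eps m F b * c)) := by
  apply Units.ext
  ext x y
  have hinv : (tv a b hab c)⁻¹ = tv a b hab (-c) := by
    rw [inv_eq_iff_mul_eq_one, tv_mul_tv, add_neg_cancel, tv_zero]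
  rw [sigma_apply, hinv, tv_coe, tv_coe, transvection_apply, transvection_apply]
  have h1 : (y.rev = x.rev) ↔ (x = y) := by
    constructor
    · intro h; exact (Fin.rev_injective h).symm
    · intro h; rw [h]
  have h2 : (a = y.rev ∧ b = x.rev) ↔ (b.rev = x ∧ a.rev = y) := by
    constructor
    · rintro ⟨h, h'⟩; rw [h, h']; simp
    · rintro ⟨h, h'⟩; rw [← h, ← h']; simp
  simp only [h1, h2]
  by_cases hxy : x = y
  · subst hxy
    rw [if_pos rfl, if_neg]
    · rw [add_zero, mul_one, if_neg, add_zero, eps_mul_self]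
      rintro ⟨h, h'⟩
      apply hab
      rw [← Fin.rev_rev a, h', ← h, Fin.rev_rev]
    · rintro ⟨h, h'⟩
      apply hab
      rw [← Fin.rev_rev a, h', ← h, Fin.rev_rev]
  · rw [if_neg hxy, zero_add, zero_add]
    by_cases h3 : b.rev = x ∧ a.rev = y
    · rw [if_pos h3, if_pos h3]
      obtain ⟨hx, hy⟩ := h3
      rw [← hx, ← hy, eps_rev, eps_rev]
      ring
    · rw [if_neg h3, if_neg h3, mul_zero]

/-- a transvection along a pair `(a, rev a)` is symplectic -/
theorem tv_rev_mem_SpH (a : Fin (2 * m)) (c : F) :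
    tv a a.rev (rev_ne_self a).symm c ∈ SpH m F := by
  rw [mem_SpH, sigma_tv]
  have e : -(eps m F a * eps m F a.rev * c) = c := by
    rw [eps_rev, mul_neg, eps_mul_self]; ring
  have : ∀ (i j : Fin (2 * m)) (h : i ≠ j) (h' : a ≠ a.rev) (c' : F), i = a → j = a.rev → c' = c →
      tv i j h c' = tv a a.rev h' c := by
    intro i j h h' c' hi hj hc
    subst hi hj hc
    rfl
  exact this _ _ _ _ _ (Fin.rev_rev a) rfl e

end Cfsg.Agent.Lib.Helper8.SpBN
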