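import Mathlib
import Cfsg.Agent.Lib.Helper8.SpBN.Sigma

/-!
# Monomial symplectic matrices, commuting supports (helper8)
-/

set_option autoImplicit false

namespace Cfsg.Agent.Lib.Helper8.SpBN

open Matrix Cfsg Cfsg.Agent.Lib.Helper5.GLBN
open scoped MatrixGroups

variable {m : ℕ} {F : Type*} [Field F]

/-! ### matrices that are the identity outside a set of coordinates -/

/-- `g` is the identity outside the coordinates in `A` -/
def SuppOn {n : ℕ} (A : Set (Fin n)) (g : Matrix (Fin n) (Fin n) F) : Prop :=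
  ∀ i j, (i ∉ A ∨ j ∉ A) → g i j = if i = j then 1 else 0

theorem mul_comm_of_suppOn {n : ℕ} {A A' : Set (Fin n)} (hd : Disjoint A A')
    {g g' : Matrix (Fin n) (Fin n) F} (hg : SuppOn A g) (hg' : SuppOn A' g') :
    g * g' = g' * g := by
  have key : ∀ {A A' : Set (Fin n)}, Disjoint A A' → ∀ {g g' : Matrix (Fin n) (Fin n) F},
      SuppOn A g → SuppOn A' g' → (g - 1) * (g' - 1) = 0 := by
    intro A A' hd g g' hg hg'
    ext i j
    rw [Matrix.mul_apply, Matrix.zero_apply]
    apply Finset.sum_eq_zero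
    intro l _
    by_cases hl : l ∈ A
    · have hl' : l ∉ A' := fun h => Set.disjoint_left.1 hd hl h
      have : (g' - 1) l j = 0 := by
        rw [Matrix.sub_apply, hg' l j (Or.inl hl'), Matrix.one_apply, sub_self]
      rw [this, mul_zero]
    · have : (g - 1) i l = 0 := by
        rw [Matrix.sub_apply, hg i l (Or.inr hl), Matrix.one_apply, sub_self]
      rw [this, zero_mul]
  have h1 := key hd hg hg'
  have h2 := key hd.symm hg' hg
  have e : g * g' - g' * g = (g - 1) * (g' - 1) - (g' - 1) * (g - 1) := by noncomm_ring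
  rw [h1, h2, sub_self] at e
  exact sub_eq_zero.1 e

theorem commute_of_suppOn {n : ℕ} {A A' : Set (Fin n)} (hd : Disjoint A A')
    {g g' : GL (Fin n) F} (hg : SuppOn A (g : Matrix (Fin n) (Fin n) F))
    (hg' : SuppOn A' (g' : Matrix (Fin n) (Fin n) F)) : g * g' = g' * g := by
  apply Units.ext
  rw [Units.val_mul, Units.val_mul]
  exact mul_comm_of_suppOn hd hg hg'

theorem suppOn_tv {n : ℕ} (a b : Fin n) (hab : a ≠ b) (c : F) :
    SuppOn ({a, b} : Set (Fin n)) ((tv a b hab c : GL (Fin n) F) : Matrix (Fin n) (Fin n) F) := by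
  intro i j h
  have h2 : ¬ (a = i ∧ b = j) := by
    rintro ⟨rfl, rfl⟩
    rcases h with h | h
    · exact h (Set.mem_insert _ _)
    · exact h (Set.mem_insert_of_mem _ rfl)
  rw [tv_coe, transvection_apply, if_neg h2, add_zero]

theorem suppOn_swap {n : ℕ} (a b : Fin n) :
    SuppOn ({a, b} : Set (Fin n))
      ((permGL (Equiv.swap a b) : GL (Fin n) F) : Matrix (Fin n) (Fin n) F) := by
  intro i j h
  rw [permGL_coe, pm_apply]
  rcases h with h | h
  · have hia : i ≠ a := fun e => h (e ▸ Set.mem_insert _ _)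
    have hib : i ≠ b := fun e => h (e ▸ Set.mem_insert_of_mem _ rfl)
    have : (i = Equiv.swap a b j) ↔ (i = j) := by
      constructor
      · intro e
        have := congrArg (Equiv.swap a b) e
        rw [Equiv.swap_apply_self, Equiv.swap_apply_of_ne_of_ne hia hib] at this
        exact this
      · intro e
        rw [← e, Equiv.swap_apply_of_ne_of_ne hia hib]
    simp only [this]
  · have hja : j ≠ a := fun e => h (e ▸ Set.mem_insert _ _)
    have hjb : j ≠ b := fun e => h (e ▸ Set.mem_insert_of_mem _ rfl)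
    rw [Equiv.swap_apply_of_ne_of_ne hja hjb]

theorem suppOn_pair_comm {n : ℕ} {a b : Fin n} {g : Matrix (Fin n) (Fin n) F}
    (h : SuppOn ({a, b} : Set (Fin n)) g) : SuppOn ({b, a} : Set (Fin n)) g := by
  rw [Set.pair_comm]; exact h

/-! ### the images of permutation matrices -/

theorem sigma_permGL (π : Equiv.Perm (Fin (2 * m))) (hπ : ∀ c, eps m F (π c) = eps m F c) :
    sigma m F (permGL π) = permGL (Fin.revPerm * π * Fin.revPerm) := by
  apply Units.ext
  ext a b
  rw [sigma_apply, ← map_inv, permGL_coe, permGL_coe, pm_apply, pm_apply]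
  have h1 : (b.rev = π⁻¹ a.rev) ↔
      (a = (Fin.revPerm * π * Fin.revPerm : Equiv.Perm (Fin (2 * m))) b) := by
    rw [Equiv.Perm.mul_apply, Equiv.Perm.mul_apply, Fin.revPerm_apply, Fin.revPerm_apply]
    constructor
    · intro h
      rw [h]; simp
    · intro h
      rw [h]; simp
  simp only [h1]
  by_cases h : a = (Fin.revPerm * π * Fin.revPerm : Equiv.Perm (Fin (2 * m))) b
  · rw [if_pos h, mul_one]
    rw [Equiv.Perm.mul_apply, Equiv.Perm.mul_apply, Fin.revPerm_apply, Fin.revPerm_apply] at h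
    rw [h, eps_rev, hπ, eps_rev, neg_neg, eps_mul_self]
  · rw [if_neg h, mul_zero]

theorem revPerm_mul_swap_mul (k k' : Fin (2 * m)) :
    (Fin.revPerm * Equiv.swap k k' * Fin.revPerm : Equiv.Perm (Fin (2 * m)))
      = Equiv.swap k.rev k'.rev := by
  have := Equiv.swap_apply_apply (Fin.revPerm : Equiv.Perm (Fin (2 * m))) k k'
  rw [Fin.revPerm_apply, Fin.revPerm_apply, revPerm_inv] at this
  exact this.symm

theorem sigma_swap {k k' : Fin (2 * m)} (h : eps m F k = eps m F k') :
    sigma m F (permGL (Equiv.swap k k')) = permGL (Equiv.swap k.rev k'.rev) := by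
  rw [sigma_permGL, revPerm_mul_swap_mul]
  intro c
  by_cases h1 : c = k
  · rw [h1, Equiv.swap_apply_left, h]
  · by_cases h2 : c = k'
    · rw [h2, Equiv.swap_apply_right, h]
    · rw [Equiv.swap_apply_of_ne_of_ne h1 h2]

/-! ### monomial symplectic matrices -/

/-- the permutation of a monomial symplectic matrix commutes with the reversal -/
theorem perm_rev_comm {g : GL (Fin (2 * m)) F} (hg : g ∈ SpH m F) {π : Equiv.Perm (Fin (2 * m))}
    (hπ : IsMono (g : Matrix (Fin (2 * m)) (Fin (2 * m)) F) π) (b : Fin (2 * m)) :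
    π b.rev = (π b).rev := by
  have h1 := sigma_isMono hπ
  rw [sigma_mem_SpH hg] at h1
  have h2 := hπ.unique h1
  have h3 := congrArg (fun τ : Equiv.Perm (Fin (2 * m)) => τ b.rev) h2
  simp only [Equiv.Perm.mul_apply, Fin.revPerm_apply, Fin.rev_rev] at h3
  exact h3

theorem perm_inv_rev_comm {g : GL (Fin (2 * m)) F} (hg : g ∈ SpH m F)
    {π : Equiv.Perm (Fin (2 * m))}
    (hπ : IsMono (g : Matrix (Fin (2 * m)) (Fin (2 * m)) F) π) (b : Fin (2 * m)) :
    π⁻¹ b.rev = (π⁻¹ b).rev := by
  have := perm_rev_comm hg hπ (π⁻¹ b)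
  rw [show π (π⁻¹ b) = b by simp] at this
  rw [← this]
  simp

/-- the inverse of a monomial matrix -/
theorem IsMono_inv_apply {n : ℕ} {g : GL (Fin n) F} {π : Equiv.Perm (Fin n)}
    (hπ : IsMono (g : Matrix (Fin n) (Fin n) F) π) (b : Fin n) :
    ((g⁻¹ : GL (Fin n) F) : Matrix (Fin n) (Fin n) F) b (π b)
      * (g : Matrix (Fin n) (Fin n) F) (π b) b = 1 := by
  have h1 : ((g⁻¹ * g : GL (Fin n) F) : Matrix (Fin n) (Fin n) F) b b = 1 := by
    rw [inv_mul_cancel]; simp
  rw [Units.val_mul, hπ.mul_apply] at h1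
  exact h1

/-- a criterion for a monomial matrix to be symplectic -/
theorem mem_SpH_of_mono {g : GL (Fin (2 * m)) F} {π : Equiv.Perm (Fin (2 * m))}
    (hπ : IsMono (g : Matrix (Fin (2 * m)) (Fin (2 * m)) F) π)
    (hrev : ∀ b, π b.rev = (π b).rev)
    (hc : ∀ b, (g : Matrix (Fin (2 * m)) (Fin (2 * m)) F) (π b) b *
      (g : Matrix (Fin (2 * m)) (Fin (2 * m)) F) (π b).rev b.rev = eps m F (π b) * eps m F b) :
    g ∈ SpH m F := by
  rw [mem_SpH]
  apply Units.ext
  ext a b
  rw [sigma_apply]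
  by_cases hab : a = π b
  · subst hab
    have h1 := IsMono_inv_apply hπ b.rev
    rw [hrev] at h1
    have h2 := hc b
    have h3 : (g : Matrix (Fin (2 * m)) (Fin (2 * m)) F) (π b).rev b.rev ≠ 0 := by
      have := hπ.apply_ne_zero b.rev
      rwa [hrev] at this
    have h4 : ((g⁻¹ : GL (Fin (2 * m)) F) : Matrix (Fin (2 * m)) (Fin (2 * m)) F) b.rev (π b).rev
        = ((g : Matrix (Fin (2 * m)) (Fin (2 * m)) F) (π b).rev b.rev)⁻¹ :=
      eq_inv_of_mul_eq_one_left h1
    rw [h4, ← h2]
    field_simp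
  · rw [hπ a b hab, hπ.inv b.rev a.rev, mul_zero]
    intro h
    apply hab
    have h5 : π b.rev = a.rev := by rw [h]; simp
    rw [hrev] at h5
    exact (Fin.rev_injective h5).symm

/-! ### upper triangular symplectic matrices -/

/-- the entry next to the diagonal of the inverse of an upper triangular matrix -/
theorem inv_adj_zero {n : ℕ} {g : GL (Fin n) F} (hg : g ∈ upperTriangularGL n F) {k k' : Fin n}
    (hk : (k : ℕ) + 1 = k') (h0 : (g : Matrix (Fin n) (Fin n) F) k k' = 0) :
    ((g⁻¹ : GL (Fin n) F) : Matrix (Fin n) (Fin n) F) k k' = 0 := by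
  have hne : k ≠ k' := by
    intro e; rw [e] at hk; omega
  have h1 : ((g * g⁻¹ : GL (Fin n) F) : Matrix (Fin n) (Fin n) F) k k' = 0 := by
    rw [mul_inv_cancel]; simp [hne]
  rw [Units.val_mul, Matrix.mul_apply, Finset.sum_eq_single k] at h1
  · rcases mul_eq_zero.1 h1 with h | h
    · exact absurd h (upper_diag_ne_zero hg k)
    · exact h
  · intro l _ hl
    by_cases hlk : l < k
    · rw [(mem_upper.1 hg) k l hlk, zero_mul]
    · by_cases hlk' : l = k'
      · rw [hlk', h0, zero_mul]
      · have : k' < l := by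
          rw [Fin.lt_def]
          have h1 : (l : ℕ) ≠ k := fun e => hl (Fin.ext e)
          have h2 : (l : ℕ) ≠ k' := fun e => hlk' (Fin.ext e)
          rw [Fin.lt_def] at hlk
          omega
        rw [(mem_upper.1 (inv_mem hg)) l k' this, mul_zero]
  · intro h; exact absurd (Finset.mem_univ _) h

/-- the mirror image of a vanishing entry next to the diagonal -/
theorem adj_zero_of_mem {g : GL (Fin (2 * m)) F} (hg : g ∈ upperTriangularGL (2 * m) F)
    (hgH : g ∈ SpH m F) {k k' : Fin (2 * m)} (hk : (k : ℕ) + 1 = k')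
    (h0 : (g : Matrix (Fin (2 * m)) (Fin (2 * m)) F) k k' = 0) :
    (g : Matrix (Fin (2 * m)) (Fin (2 * m)) F) k'.rev k.rev = 0 := by
  have h1 := sigma_apply g k'.rev k.rev
  rw [sigma_mem_SpH hgH, Fin.rev_rev, Fin.rev_rev, inv_adj_zero hg hk h0, mul_zero] at h1
  exact h1

theorem rev_adj {k k' : Fin (2 * m)} (hk : (k : ℕ) + 1 = k') :
    ((k'.rev : Fin (2 * m)) : ℕ) + 1 = (k.rev : Fin (2 * m)) := by
  rw [Fin.val_rev, Fin.val_rev]
  have := k'.2
  omega

end Cfsg.Agent.Lib.Helper8.SpBN
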