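import Mathlib
import Cfsg.Agent.Lib.Helper8.SpBN.Mono

/-!
# The double coset axiom for the symplectic group (helper8)
-/

set_option autoImplicit false

namespace Cfsg.Agent.Lib.Helper8.SpBN

open Matrix Cfsg Cfsg.Agent.Lib.Helper5.GLBN
open scoped MatrixGroups

variable {m : ℕ} {F : Type*} [Field F]

/-- the upper triangular symplectic matrices -/
def BH (m : ℕ) (F : Type*) [Field F] : Subgroup (GL (Fin (2 * m)) F) :=
  upperTriangularGL (2 * m) F ⊓ SpH m F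

/-- the monomial symplectic matrices -/
def NH (m : ℕ) (F : Type*) [Field F] : Subgroup (GL (Fin (2 * m)) F) :=
  monoN (2 * m) F ⊓ SpH m F

theorem mem_BH {g : GL (Fin (2 * m)) F} :
    g ∈ BH m F ↔ g ∈ upperTriangularGL (2 * m) F ∧ g ∈ SpH m F := Subgroup.mem_inf

theorem mem_NH {g : GL (Fin (2 * m)) F} :
    g ∈ NH m F ↔ g ∈ monoN (2 * m) F ∧ g ∈ SpH m F := Subgroup.mem_inf

/-- the abstract form of the double coset axiom -/
theorem T1_core {G : Type*} [Group G] (B : Subgroup G) {s n b b' X : G}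
    (hb : b = b' * X) (hc : s * b' * s⁻¹ ∈ B)
    (h : (∃ β ∈ B, X * n = n * β) ∨
      (∃ R ∈ B, ∃ Y, s * X = R * Y ∧ ∃ β ∈ B, Y * n = n * β)) :
    ∃ β ∈ B, ∃ β' ∈ B, s * b * n = β * (s * n) * β' ∨ s * b * n = β * n * β' := by
  rcases h with ⟨β, hβ, h1⟩ | ⟨R, hR, Y, h1, β, hβ, h2⟩
  · refine ⟨s * b' * s⁻¹, hc, β, hβ, Or.inl ?_⟩
    calc s * b * n = s * b' * (X * n) := by rw [hb]; group
      _ = s * b' * (n * β) := by rw [h1]
      _ = s * b' * s⁻¹ * (s * n) * β := by group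
  · refine ⟨s * b' * s⁻¹ * R, mul_mem hc hR, β, hβ, Or.inr ?_⟩
    calc s * b * n = s * b' * s⁻¹ * (s * X) * n := by rw [hb]; group
      _ = s * b' * s⁻¹ * (R * Y) * n := by rw [h1]
      _ = s * b' * s⁻¹ * R * (Y * n) := by group
      _ = s * b' * s⁻¹ * R * (n * β) := by rw [h2]
      _ = s * b' * s⁻¹ * R * n * β := by group

/-! ### the short simple reflections -/

/-- the short simple reflections -/
def sS (k k' : Fin (2 * m)) : GL (Fin (2 * m)) F :=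
  permGL (Equiv.swap k k') * permGL (Equiv.swap k.rev k'.rev)

theorem disj_aux {k k' : Fin (2 * m)} (hk : (k : ℕ) < m) (hk' : (k' : ℕ) < m) :
    Disjoint ({k, k'} : Set (Fin (2 * m))) {k.rev, k'.rev} := by
  rw [Set.disjoint_left]
  intro a ha ha'
  have h1 : (a : ℕ) < m := by
    rcases ha with rfl | rfl
    · exact hk
    · exact hk'
  have h2 : m ≤ (a : ℕ) := by
    rcases ha' with rfl | rfl
    · rw [Fin.val_rev]; omega
    · rw [Fin.val_rev]; omega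
  omega

theorem sS_comm {k k' : Fin (2 * m)} (hk : (k : ℕ) < m) (hk' : (k' : ℕ) < m) :
    (permGL (Equiv.swap k k') : GL (Fin (2 * m)) F) * permGL (Equiv.swap k.rev k'.rev)
      = permGL (Equiv.swap k.rev k'.rev) * permGL (Equiv.swap k k') :=
  commute_of_suppOn (disj_aux hk hk') (suppOn_swap k k') (suppOn_swap _ _)

theorem sS_mem_SpH {k k' : Fin (2 * m)} (hk : (k : ℕ) < m) (hk' : (k' : ℕ) < m) :
    (sS k k' : GL (Fin (2 * m)) F) ∈ SpH m F := by
  have h1 := sigma_swap (F := F) (eps_eq_of_lt (F := F) hk hk')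
  have := sym_mem_SpH (permGL (Equiv.swap k k') : GL (Fin (2 * m)) F)
    (by rw [h1]; exact sS_comm hk hk')
  rw [h1] at this
  exact this

theorem sS_mul_self {k k' : Fin (2 * m)} (hk : (k : ℕ) < m) (hk' : (k' : ℕ) < m) :
    (sS k k' : GL (Fin (2 * m)) F) * sS k k' = 1 := by
  unfold sS
  calc (permGL (Equiv.swap k k') : GL (Fin (2 * m)) F) * permGL (Equiv.swap k.rev k'.rev)
        * (permGL (Equiv.swap k k') * permGL (Equiv.swap k.rev k'.rev))
      = permGL (Equiv.swap k k') * (permGL (Equiv.swap k.rev k'.rev) * permGL (Equiv.swap k k'))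
        * permGL (Equiv.swap k.rev k'.rev) := by group
    _ = permGL (Equiv.swap k k') * (permGL (Equiv.swap k k') * permGL (Equiv.swap k.rev k'.rev))
        * permGL (Equiv.swap k.rev k'.rev) := by rw [sS_comm hk hk']
    _ = (permGL (Equiv.swap k k') * permGL (Equiv.swap k k')) *
        (permGL (Equiv.swap k.rev k'.rev) * permGL (Equiv.swap k.rev k'.rev)) := by group
    _ = 1 := by rw [permGL_swap_mul_self, permGL_swap_mul_self, one_mul]

theorem sS_mem_monoN (k k' : Fin (2 * m)) : (sS k k' : GL (Fin (2 * m)) F) ∈ monoN (2 * m) F :=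
  mul_mem (permGL_mem _) (permGL_mem _)

theorem tv_inv {n : ℕ} (a b : Fin n) (hab : a ≠ b) (c : F) :
    (tv a b hab c)⁻¹ = tv a b hab (-c) := by
  rw [inv_eq_iff_mul_eq_one, tv_mul_tv, add_neg_cancel, tv_zero]

theorem T1_short {k k' : Fin (2 * m)} (hk : (k : ℕ) + 1 = k') (hk' : (k' : ℕ) < m)
    {b n : GL (Fin (2 * m)) F} (hb : b ∈ BH m F) (hn : n ∈ NH m F) :
    ∃ β ∈ BH m F, ∃ β' ∈ BH m F,
      sS k k' * b * n = β * (sS k k' * n) * β' ∨ sS k k' * b * n = β * n * β' := by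
  obtain ⟨hbU, hbH⟩ := mem_BH.1 hb
  obtain ⟨⟨π, hπ⟩, hnH⟩ := mem_NH.1 hn
  have hlt : k < k' := by rw [Fin.lt_def]; omega
  have hne : k ≠ k' := ne_of_lt hlt
  have hkm : (k : ℕ) < m := by omega
  have hd := disj_aux hkm hk'
  have heps : eps m F k = eps m F k' := eps_eq_of_lt hkm hk'
  obtain ⟨ŝ, hŝ⟩ : ∃ ŝ : GL (Fin (2 * m)) F, ŝ = permGL (Equiv.swap k k') := ⟨_, rfl⟩
  obtain ⟨ŝ', hŝ'⟩ : ∃ ŝ' : GL (Fin (2 * m)) F, ŝ' = permGL (Equiv.swap k.rev k'.rev) := ⟨_, rfl⟩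
  have hσŝ : sigma m F ŝ = ŝ' := by rw [hŝ, hŝ']; exact sigma_swap heps
  have hLŝ : SuppOn ({k, k'} : Set (Fin (2 * m))) (ŝ : Matrix (Fin (2 * m)) (Fin (2 * m)) F) := by
    rw [hŝ]; exact suppOn_swap k k'
  have hRŝ' : SuppOn ({k.rev, k'.rev} : Set (Fin (2 * m)))
      (ŝ' : Matrix (Fin (2 * m)) (Fin (2 * m)) F) := by
    rw [hŝ']; exact suppOn_swap _ _
  have hs : (sS k k' : GL (Fin (2 * m)) F) = ŝ * ŝ' := by rw [hŝ, hŝ']; rfl
  have hŝŝ' : ŝ * ŝ' = ŝ' * ŝ := commute_of_suppOn hd hLŝ hRŝ'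
  have hss : (sS k k' : GL (Fin (2 * m)) F) * sS k k' = 1 := sS_mul_self hkm hk'
  have hsinv : (sS k k' : GL (Fin (2 * m)) F)⁻¹ = sS k k' := inv_eq_of_mul_eq_one_right hss
  have hsH : (sS k k' : GL (Fin (2 * m)) F) ∈ SpH m F := sS_mem_SpH hkm hk'
  -- split `b`
  obtain ⟨b₁, hb₁, t, hbt, h0⟩ := exists_split hbU hlt
  obtain ⟨x, hx⟩ : ∃ x : GL (Fin (2 * m)) F, x = tv k k' hne t := ⟨_, rfl⟩
  have hbt' : b = b₁ * x := by rw [hx]; exact hbt
  have hσx : sigma m F x = tv k'.rev k.rev (fun h => hne (Fin.rev_injective h).symm)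
      (-(eps m F k * eps m F k' * t)) := by rw [hx]; exact sigma_tv k k' hne t
  have hLx : SuppOn ({k, k'} : Set (Fin (2 * m))) (x : Matrix (Fin (2 * m)) (Fin (2 * m)) F) := by
    rw [hx]; exact suppOn_tv _ _ _ _
  have hRσx : SuppOn ({k.rev, k'.rev} : Set (Fin (2 * m)))
      ((sigma m F x : GL (Fin (2 * m)) F) : Matrix (Fin (2 * m)) (Fin (2 * m)) F) := by
    rw [hσx]; exact suppOn_pair_comm (suppOn_tv _ _ _ _)
  have hcx : x * sigma m F x = sigma m F x * x := commute_of_suppOn hd hLx hRσx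
  obtain ⟨X, hX⟩ : ∃ X : GL (Fin (2 * m)) F, X = x * sigma m F x := ⟨_, rfl⟩
  have hXH : X ∈ SpH m F := by rw [hX]; exact sym_mem_SpH x hcx
  have hxU : x ∈ upperTriangularGL (2 * m) F := by rw [hx]; exact tv_mem_upper hlt t
  have hXU : X ∈ upperTriangularGL (2 * m) F := by
    rw [hX]; exact mul_mem hxU (sigma_mem_upper hxU)
  obtain ⟨b', hb'⟩ : ∃ b' : GL (Fin (2 * m)) F, b' = b₁ * (sigma m F x)⁻¹ := ⟨_, rfl⟩
  have hbX : b = b' * X := by
    rw [hbt', hb', hX, hcx]; group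
  have hb'U : b' ∈ upperTriangularGL (2 * m) F := by
    rw [hb']; exact mul_mem hb₁ (inv_mem (sigma_mem_upper hxU))
  have hb'H : b' ∈ SpH m F := by
    have : b' = b * X⁻¹ := by rw [hbX]; group
    rw [this]; exact mul_mem hbH (inv_mem hXH)
  have hk'ne : k' ≠ k.rev := by
    intro e
    have := congrArg Fin.val e
    rw [Fin.val_rev] at this
    omega
  have hb'0 : (b' : Matrix (Fin (2 * m)) (Fin (2 * m)) F) k k' = 0 := by
    rw [hb', hσx, tv_inv, Units.val_mul, tv_coe, mul_transvection_apply_of_ne _ _ _ _ hk'ne]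
    exact h0
  have hb'0' : (b' : Matrix (Fin (2 * m)) (Fin (2 * m)) F) k'.rev k.rev = 0 :=
    adj_zero_of_mem hb'U hb'H hk hb'0
  -- conjugation by `s`
  have hc1 : ŝ * b' * ŝ ∈ upperTriangularGL (2 * m) F := by
    rw [hŝ]; exact swap_conj_mem hb'U hk hb'0
  have hr1 : k'.rev ≠ k := by
    intro e
    have := congrArg Fin.val e
    rw [Fin.val_rev] at this
    omega
  have hr2 : k'.rev ≠ k' := rev_ne_self k'
  have hr3 : k.rev ≠ k := rev_ne_self k
  have hr4 : k.rev ≠ k' := fun e => hk'ne e.symm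
  have hc1' : ((ŝ * b' * ŝ : GL (Fin (2 * m)) F) : Matrix (Fin (2 * m)) (Fin (2 * m)) F)
      k'.rev k.rev = 0 := by
    rw [hŝ, Units.val_mul, Units.val_mul, permGL_coe, mul_pm_apply, pm_mul_apply, Equiv.swap_inv,
      Equiv.swap_apply_of_ne_of_ne hr1 hr2, Equiv.swap_apply_of_ne_of_ne hr3 hr4]
    exact hb'0'
  have hc2 : ŝ' * (ŝ * b' * ŝ) * ŝ' ∈ upperTriangularGL (2 * m) F := by
    rw [hŝ', Equiv.swap_comm]; exact swap_conj_mem hc1 (rev_adj hk) hc1'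
  have hconj : sS k k' * b' * (sS k k')⁻¹ ∈ BH m F := by
    refine mem_BH.2 ⟨?_, mul_mem (mul_mem hsH hb'H) (inv_mem hsH)⟩
    rw [hsinv]
    have : (sS k k' : GL (Fin (2 * m)) F) * b' * sS k k' = ŝ' * (ŝ * b' * ŝ) * ŝ' := by
      rw [hs]
      calc ŝ * ŝ' * b' * (ŝ * ŝ') = ŝ' * ŝ * b' * (ŝ * ŝ') := by rw [hŝŝ']
        _ = ŝ' * (ŝ * b' * ŝ) * ŝ' := by group
    rw [this]; exact hc2
  by_cases ht : t = 0
  · have hX1 : X = 1 := by rw [hX, hx, ht, tv_zero, map_one, mul_one]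
    apply T1_core (BH m F) hbX hconj
    left
    exact ⟨1, one_mem _, by rw [hX1, one_mul, mul_one]⟩
  obtain ⟨t₁, ht₁⟩ := tv_mul_mono hπ k k' hne t
  have hne₁ : π⁻¹ k ≠ π⁻¹ k' := fun h => hne (π⁻¹.injective h)
  obtain ⟨x₁, hx₁⟩ : ∃ x₁ : GL (Fin (2 * m)) F, x₁ = tv (π⁻¹ k) (π⁻¹ k') hne₁ t₁ := ⟨_, rfl⟩
  have hxn : x * n = n * x₁ := by rw [hx, hx₁]; exact ht₁
  have hσxn : sigma m F x * n = n * sigma m F x₁ := by
    have := congrArg (sigma m F) hxn
    rwa [map_mul, map_mul, sigma_mem_SpH hnH] at this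
  have hXn : X * n = n * (x₁ * sigma m F x₁) := by
    rw [hX, mul_assoc, hσxn, ← mul_assoc, hxn, mul_assoc]
  have hX₁H : x₁ * sigma m F x₁ ∈ SpH m F := by
    have : x₁ * sigma m F x₁ = n⁻¹ * X * n := by rw [mul_assoc, hXn]; group
    rw [this]; exact mul_mem (mul_mem (inv_mem hnH) hXH) hnH
  rcases lt_or_gt_of_ne hne₁ with hlt' | hlt'
  · have hx₁U : x₁ ∈ upperTriangularGL (2 * m) F := by rw [hx₁]; exact tv_mem_upper hlt' t₁
    apply T1_core (BH m F) hbX hconj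
    left
    exact ⟨x₁ * sigma m F x₁, mem_BH.2 ⟨mul_mem hx₁U (sigma_mem_upper hx₁U), hX₁H⟩, hXn⟩
  · obtain ⟨y, hy⟩ : ∃ y : GL (Fin (2 * m)) F, y = tv k' k hne.symm (-(1 / t)) := ⟨_, rfl⟩
    obtain ⟨r, hr⟩ : ∃ r : GL (Fin (2 * m)) F, r = ŝ * x * y := ⟨_, rfl⟩
    have hrU : r ∈ upperTriangularGL (2 * m) F := by
      rw [hr, hŝ, hx, hy]; exact sl2_upper hk hne t ht
    have hσy : sigma m F y = tv k.rev k'.rev (fun h => hne.symm (Fin.rev_injective h).symm)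
        (-(eps m F k' * eps m F k * -(1 / t))) := by rw [hy]; exact sigma_tv k' k hne.symm _
    have hLy : SuppOn ({k, k'} : Set (Fin (2 * m)))
        (y : Matrix (Fin (2 * m)) (Fin (2 * m)) F) := by
      rw [hy]; exact suppOn_pair_comm (suppOn_tv _ _ _ _)
    have hRσy : SuppOn ({k.rev, k'.rev} : Set (Fin (2 * m)))
        ((sigma m F y : GL (Fin (2 * m)) F) : Matrix (Fin (2 * m)) (Fin (2 * m)) F) := by
      rw [hσy]; exact suppOn_tv _ _ _ _
    have hcy : y * sigma m F y = sigma m F y * y := commute_of_suppOn hd hLy hRσy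
    obtain ⟨Y, hY⟩ : ∃ Y : GL (Fin (2 * m)) F, Y = y * sigma m F y := ⟨_, rfl⟩
    have hYH : Y ∈ SpH m F := by rw [hY]; exact sym_mem_SpH y hcy
    have hRdef : r * sigma m F r = sS k k' * X * Y := by
      rw [hr, map_mul, map_mul, hσŝ, hX, hY, hs]
      have c1 : x * ŝ' = ŝ' * x := commute_of_suppOn hd hLx hRŝ'
      have c2 : y * ŝ' = ŝ' * y := commute_of_suppOn hd hLy hRŝ'
      have c3 : y * sigma m F x = sigma m F x * y := commute_of_suppOn hd hLy hRσx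
      calc ŝ * x * y * (ŝ' * sigma m F x * sigma m F y)
          = ŝ * x * (y * ŝ') * sigma m F x * sigma m F y := by group
        _ = ŝ * x * (ŝ' * y) * sigma m F x * sigma m F y := by rw [c2]
        _ = ŝ * (x * ŝ') * (y * sigma m F x) * sigma m F y := by group
        _ = ŝ * (ŝ' * x) * (sigma m F x * y) * sigma m F y := by rw [c1, c3]
        _ = ŝ * ŝ' * (x * sigma m F x) * (y * sigma m F y) := by group
    have hRU : r * sigma m F r ∈ upperTriangularGL (2 * m) F :=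
      mul_mem hrU (sigma_mem_upper hrU)
    have hRH : r * sigma m F r ∈ SpH m F := by
      rw [hRdef]; exact mul_mem (mul_mem hsH hXH) hYH
    have hyinv : y⁻¹ = tv k' k hne.symm (1 / t) := by rw [hy, tv_inv, neg_neg]
    obtain ⟨t₂, ht₂⟩ := tv_mul_mono hπ k' k hne.symm (1 / t)
    obtain ⟨y₁, hy₁⟩ : ∃ y₁ : GL (Fin (2 * m)) F, y₁ = tv (π⁻¹ k') (π⁻¹ k) hne₁.symm t₂ :=
      ⟨_, rfl⟩
    have hyn : y⁻¹ * n = n * y₁ := by rw [hyinv, hy₁]; exact ht₂
    have hσyn : sigma m F y⁻¹ * n = n * sigma m F y₁ := by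
      have := congrArg (sigma m F) hyn
      rwa [map_mul, map_mul, sigma_mem_SpH hnH] at this
    have hYinv : Y⁻¹ = y⁻¹ * sigma m F y⁻¹ := by
      rw [hY, hcy, _root_.mul_inv_rev, map_inv]
    have hYn : Y⁻¹ * n = n * (y₁ * sigma m F y₁) := by
      rw [hYinv, mul_assoc, hσyn, ← mul_assoc, hyn, mul_assoc]
    have hY₁H : y₁ * sigma m F y₁ ∈ SpH m F := by
      have : y₁ * sigma m F y₁ = n⁻¹ * Y⁻¹ * n := by rw [mul_assoc, hYn]; group
      rw [this]; exact mul_mem (mul_mem (inv_mem hnH) (inv_mem hYH)) hnH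
    have hy₁U : y₁ ∈ upperTriangularGL (2 * m) F := by rw [hy₁]; exact tv_mem_upper hlt' t₂
    apply T1_core (BH m F) hbX hconj
    right
    refine ⟨r * sigma m F r, mem_BH.2 ⟨hRU, hRH⟩, Y⁻¹, ?_, y₁ * sigma m F y₁,
      mem_BH.2 ⟨mul_mem hy₁U (sigma_mem_upper hy₁U), hY₁H⟩, hYn⟩
    rw [hRdef]; group

end Cfsg.Agent.Lib.Helper8.SpBN
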