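import Mathlib
import Cfsg.Agent.Lib.Helper8.SpBN.T1

/-!
# The double coset axiom for the symplectic group: the long simple reflection (helper8)
-/

set_option autoImplicit false

namespace Cfsg.Agent.Lib.Helper8.SpBN

open Matrix Cfsg Cfsg.Agent.Lib.Helper5.GLBN
open scoped MatrixGroups

variable {m : ℕ} {F : Type*} [Field F]

/-- the diagonal entries: `-1` at the position `rev k` -/
def dLfun (k : Fin (2 * m)) (i : Fin (2 * m)) : F := if i = k.rev then -1 else 1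

theorem dLfun_mul_self (k i : Fin (2 * m)) : (dLfun k i : F) * dLfun k i = 1 := by
  unfold dLfun; split_ifs <;> simp

theorem diagonal_dLfun_mul (k : Fin (2 * m)) :
    (Matrix.diagonal (dLfun k) : Matrix (Fin (2 * m)) (Fin (2 * m)) F) * Matrix.diagonal (dLfun k)
      = 1 := by
  rw [Matrix.diagonal_mul_diagonal]
  have : (fun i => (dLfun k i : F) * dLfun k i) = fun _ => 1 := by
    funext i; exact dLfun_mul_self k i
  rw [this, Matrix.diagonal_one]

/-- the diagonal matrix with `-1` at the position `rev k` -/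
def dL (k : Fin (2 * m)) : GL (Fin (2 * m)) F :=
  ⟨Matrix.diagonal (dLfun k), Matrix.diagonal (dLfun k), diagonal_dLfun_mul k,
    diagonal_dLfun_mul k⟩

theorem dL_coe (k : Fin (2 * m)) :
    ((dL k : GL (Fin (2 * m)) F) : Matrix (Fin (2 * m)) (Fin (2 * m)) F)
      = Matrix.diagonal (dLfun k) := rfl

theorem dL_mul_self (k : Fin (2 * m)) : (dL k : GL (Fin (2 * m)) F) * dL k = 1 := by
  apply Units.ext
  rw [Units.val_mul, dL_coe, diagonal_dLfun_mul]; rfl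

theorem dL_inv (k : Fin (2 * m)) : (dL k : GL (Fin (2 * m)) F)⁻¹ = dL k :=
  inv_eq_of_mul_eq_one_right (dL_mul_self k)

theorem dL_mem_upper (k : Fin (2 * m)) : (dL k : GL (Fin (2 * m)) F) ∈ upperTriangularGL (2 * m) F := by
  rw [mem_upper]
  intro i j hji
  rw [dL_coe, Matrix.diagonal_apply_ne _ (ne_of_gt hji)]

/-- the reflection changing the sign at the position `k` -/
def sL (k : Fin (2 * m)) : GL (Fin (2 * m)) F := dL k * permGL (Equiv.swap k k.rev)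

theorem sL_apply (k i j : Fin (2 * m)) :
    ((sL k : GL (Fin (2 * m)) F) : Matrix (Fin (2 * m)) (Fin (2 * m)) F) i j
      = dLfun k i * if i = Equiv.swap k k.rev j then 1 else 0 := by
  unfold sL
  rw [Units.val_mul, dL_coe, Matrix.diagonal_mul, permGL_coe, pm_apply]

theorem isMono_sL (k : Fin (2 * m)) :
    IsMono ((sL k : GL (Fin (2 * m)) F) : Matrix (Fin (2 * m)) (Fin (2 * m)) F)
      (Equiv.swap k k.rev) := by
  intro i j hij
  rw [sL_apply, if_neg hij, mul_zero]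

theorem swap_rev_comm (k b : Fin (2 * m)) :
    Equiv.swap k k.rev b.rev = (Equiv.swap k k.rev b).rev := by
  by_cases h1 : b = k
  · subst h1
    rw [Equiv.swap_apply_right, Equiv.swap_apply_left, Fin.rev_rev]
  · by_cases h2 : b = k.rev
    · subst h2
      rw [Fin.rev_rev, Equiv.swap_apply_left, Equiv.swap_apply_right]
    · have h3 : b.rev ≠ k := fun e => h2 (by rw [← e, Fin.rev_rev])
      have h4 : b.rev ≠ k.rev := fun e => h1 (Fin.rev_injective e)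
      rw [Equiv.swap_apply_of_ne_of_ne h1 h2, Equiv.swap_apply_of_ne_of_ne h3 h4]

theorem sL_mem_SpH (k : Fin (2 * m)) : (sL k : GL (Fin (2 * m)) F) ∈ SpH m F := by
  apply mem_SpH_of_mono (isMono_sL k) (swap_rev_comm k)
  intro b
  rw [sL_apply, sL_apply, if_pos rfl, if_pos (swap_rev_comm k b).symm, mul_one, mul_one]
  have hkr : k.rev ≠ k := rev_ne_self k
  by_cases h1 : b = k
  · subst h1
    rw [Equiv.swap_apply_left, Fin.rev_rev]
    unfold dLfun
    rw [if_pos rfl, if_neg hkr.symm, eps_rev]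
    have h := eps_mul_self (F := F) b
    linear_combination h
  · by_cases h2 : b = k.rev
    · subst h2
      rw [Equiv.swap_apply_right]
      unfold dLfun
      rw [if_neg hkr.symm, if_pos rfl, eps_rev]
      have h := eps_mul_self (F := F) k
      linear_combination h
    · rw [Equiv.swap_apply_of_ne_of_ne h1 h2]
      unfold dLfun
      have h3 : b.rev ≠ k.rev := fun e => h1 (Fin.rev_injective e)
      rw [if_neg h2, if_neg h3, eps_mul_self, one_mul]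

theorem tv_rev_mem_SpH' (a b : Fin (2 * m)) (hb : b = a.rev) (hab : a ≠ b) (c : F) :
    tv a b hab c ∈ SpH m F := by
  subst hb
  exact tv_rev_mem_SpH a c

theorem sL_inv (k : Fin (2 * m)) :
    (sL k : GL (Fin (2 * m)) F)⁻¹ = permGL (Equiv.swap k k.rev) * dL k := by
  unfold sL
  rw [_root_.mul_inv_rev, dL_inv, inv_eq_of_mul_eq_one_right (permGL_swap_mul_self k k.rev)]

theorem sL_mem_monoN (k : Fin (2 * m)) : (sL k : GL (Fin (2 * m)) F) ∈ monoN (2 * m) F :=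
  ⟨_, isMono_sL k⟩

theorem T1_long {k : Fin (2 * m)} (hk : (k : ℕ) + 1 = m)
    {b n : GL (Fin (2 * m)) F} (hb : b ∈ BH m F) (hn : n ∈ NH m F) :
    ∃ β ∈ BH m F, ∃ β' ∈ BH m F,
      sL k * b * n = β * (sL k * n) * β' ∨ sL k * b * n = β * n * β' := by
  obtain ⟨hbU, hbH⟩ := mem_BH.1 hb
  obtain ⟨⟨π, hπ⟩, hnH⟩ := mem_NH.1 hn
  have hk2 : (k : ℕ) + 1 = (k.rev : Fin (2 * m)) := by rw [Fin.val_rev]; omega
  have hlt : k < k.rev := by rw [Fin.lt_def]; omega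
  have hne : k ≠ k.rev := ne_of_lt hlt
  obtain ⟨ŝ, hŝ⟩ : ∃ ŝ : GL (Fin (2 * m)) F, ŝ = permGL (Equiv.swap k k.rev) := ⟨_, rfl⟩
  have hs : (sL k : GL (Fin (2 * m)) F) = dL k * ŝ := by rw [hŝ]; rfl
  have hsinv : (sL k : GL (Fin (2 * m)) F)⁻¹ = ŝ * dL k := by rw [hŝ]; exact sL_inv k
  have hsH : (sL k : GL (Fin (2 * m)) F) ∈ SpH m F := sL_mem_SpH k
  obtain ⟨b₁, hb₁, t, hbt, h0⟩ := exists_split hbU hlt
  obtain ⟨x, hx⟩ : ∃ x : GL (Fin (2 * m)) F, x = tv k k.rev hne t := ⟨_, rfl⟩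
  have hbt' : b = b₁ * x := by rw [hx]; exact hbt
  have hxH : x ∈ SpH m F := by rw [hx]; exact tv_rev_mem_SpH' k k.rev rfl hne t
  have hxU : x ∈ upperTriangularGL (2 * m) F := by rw [hx]; exact tv_mem_upper hlt t
  have hb₁H : b₁ ∈ SpH m F := by
    have : b₁ = b * x⁻¹ := by rw [hbt']; group
    rw [this]; exact mul_mem hbH (inv_mem hxH)
  have hc1 : ŝ * b₁ * ŝ ∈ upperTriangularGL (2 * m) F := by
    rw [hŝ]; exact swap_conj_mem hb₁ hk2 h0
  have hconj : sL k * b₁ * (sL k)⁻¹ ∈ BH m F := by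
    refine mem_BH.2 ⟨?_, mul_mem (mul_mem hsH hb₁H) (inv_mem hsH)⟩
    have : (sL k : GL (Fin (2 * m)) F) * b₁ * (sL k)⁻¹ = dL k * (ŝ * b₁ * ŝ) * dL k := by
      rw [hsinv, hs]; group
    rw [this]
    exact mul_mem (mul_mem (dL_mem_upper k) hc1) (dL_mem_upper k)
  by_cases ht : t = 0
  · have hX1 : x = 1 := by rw [hx, ht, tv_zero]
    apply T1_core (BH m F) hbt' hconj
    left
    exact ⟨1, one_mem _, by rw [hX1, one_mul, mul_one]⟩
  obtain ⟨t₁, ht₁⟩ := tv_mul_mono hπ k k.rev hne t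
  have hne₁ : π⁻¹ k ≠ π⁻¹ k.rev := fun h => hne (π⁻¹.injective h)
  obtain ⟨x₁, hx₁⟩ : ∃ x₁ : GL (Fin (2 * m)) F, x₁ = tv (π⁻¹ k) (π⁻¹ k.rev) hne₁ t₁ := ⟨_, rfl⟩
  have hxn : x * n = n * x₁ := by rw [hx, hx₁]; exact ht₁
  have hx₁H : x₁ ∈ SpH m F := by
    have : x₁ = n⁻¹ * x * n := by rw [mul_assoc, hxn]; group
    rw [this]; exact mul_mem (mul_mem (inv_mem hnH) hxH) hnH
  rcases lt_or_gt_of_ne hne₁ with hlt' | hlt'
  · have hx₁U : x₁ ∈ upperTriangularGL (2 * m) F := by rw [hx₁]; exact tv_mem_upper hlt' t₁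
    apply T1_core (BH m F) hbt' hconj
    left
    exact ⟨x₁, mem_BH.2 ⟨hx₁U, hx₁H⟩, hxn⟩
  · obtain ⟨y, hy⟩ : ∃ y : GL (Fin (2 * m)) F, y = tv k.rev k hne.symm (-(1 / t)) := ⟨_, rfl⟩
    have hyH : y ∈ SpH m F := by
      rw [hy]; exact tv_rev_mem_SpH' k.rev k (Fin.rev_rev k).symm hne.symm _
    obtain ⟨r, hr⟩ : ∃ r : GL (Fin (2 * m)) F, r = sL k * x * y := ⟨_, rfl⟩
    have hrU : r ∈ upperTriangularGL (2 * m) F := by
      have h1 : ŝ * x * y ∈ upperTriangularGL (2 * m) F := by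
        rw [hŝ, hx, hy]; exact sl2_upper hk2 hne t ht
      have : r = dL k * (ŝ * x * y) := by rw [hr, hs]; group
      rw [this]; exact mul_mem (dL_mem_upper k) h1
    have hrH : r ∈ SpH m F := by rw [hr]; exact mul_mem (mul_mem hsH hxH) hyH
    have hyinv : y⁻¹ = tv k.rev k hne.symm (1 / t) := by rw [hy, tv_inv, neg_neg]
    obtain ⟨t₂, ht₂⟩ := tv_mul_mono hπ k.rev k hne.symm (1 / t)
    obtain ⟨y₁, hy₁⟩ : ∃ y₁ : GL (Fin (2 * m)) F, y₁ = tv (π⁻¹ k.rev) (π⁻¹ k) hne₁.symm t₂ :=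
      ⟨_, rfl⟩
    have hyn : y⁻¹ * n = n * y₁ := by rw [hyinv, hy₁]; exact ht₂
    have hy₁H : y₁ ∈ SpH m F := by
      have : y₁ = n⁻¹ * y⁻¹ * n := by rw [mul_assoc, hyn]; group
      rw [this]; exact mul_mem (mul_mem (inv_mem hnH) (inv_mem hyH)) hnH
    have hy₁U : y₁ ∈ upperTriangularGL (2 * m) F := by rw [hy₁]; exact tv_mem_upper hlt' t₂
    apply T1_core (BH m F) hbt' hconj
    right
    refine ⟨r, mem_BH.2 ⟨hrU, hrH⟩, y⁻¹, ?_, y₁, mem_BH.2 ⟨hy₁U, hy₁H⟩, hyn⟩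
    rw [hr]; group

end Cfsg.Agent.Lib.Helper8.SpBN
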