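import Mathlib
import Cfsg.Agent.Lib.Helper8.SpBN.T1Long

/-!
# The monomial symplectic matrices are generated by the simple reflections and the torus (helper8)
-/

set_option autoImplicit false

namespace Cfsg.Agent.Lib.Helper8.SpBN

open Matrix Cfsg Cfsg.Agent.Lib.Helper5.GLBN
open scoped MatrixGroups

variable {m : ℕ} {F : Type*} [Field F]

/-- the simple reflections -/
def SH (m : ℕ) (F : Type*) [Field F] : Set (GL (Fin (2 * m)) F) :=
  {g | (∃ k k' : Fin (2 * m), (k : ℕ) + 1 = k' ∧ (k' : ℕ) < m ∧ g = sS k k') ∨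
    (∃ k : Fin (2 * m), (k : ℕ) + 1 = m ∧ g = sL k)}

theorem SH_subset_SpH : SH m F ⊆ (SpH m F : Set (GL (Fin (2 * m)) F)) := by
  rintro g (⟨k, k', hk, hk', rfl⟩ | ⟨k, -, rfl⟩)
  · exact sS_mem_SpH (by omega) hk'
  · exact sL_mem_SpH k

theorem SH_subset_monoN : SH m F ⊆ (monoN (2 * m) F : Set (GL (Fin (2 * m)) F)) := by
  rintro g (⟨k, k', -, -, rfl⟩ | ⟨k, -, rfl⟩)
  · exact sS_mem_monoN k k'
  · exact sL_mem_monoN k

theorem isMono_sS (k k' : Fin (2 * m)) :
    IsMono ((sS k k' : GL (Fin (2 * m)) F) : Matrix (Fin (2 * m)) (Fin (2 * m)) F)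
      (Equiv.swap k k' * Equiv.swap k.rev k'.rev) := by
  unfold sS
  rw [Units.val_mul]
  exact (isMono_pm _).mul (isMono_pm _)

/-! ### a measure on permutations -/

/-- the measure `∑ i, i * π i` -/
def Mz {n : ℕ} (π : Equiv.Perm (Fin n)) : ℤ := ∑ i : Fin n, ((i : ℕ) : ℤ) * (((π i : Fin n) : ℕ) : ℤ)

theorem Mz_lt {n : ℕ} (π : Equiv.Perm (Fin n)) {a b : Fin n} (hab : a < b) (h : π b < π a) :
    Mz π < Mz (π * Equiv.swap a b) := by
  have hne : a ≠ b := ne_of_lt hab
  have e1 : Mz (π * Equiv.swap a b)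
      = ∑ j : Fin n, (((Equiv.swap a b j : Fin n) : ℕ) : ℤ) * (((π j : Fin n) : ℕ) : ℤ) := by
    unfold Mz
    rw [← Equiv.sum_comp (Equiv.swap a b)]
    apply Finset.sum_congr rfl
    intro i _
    rw [Equiv.Perm.mul_apply, Equiv.swap_apply_self]
  have e2 : Mz (π * Equiv.swap a b) - Mz π
      = ∑ j : Fin n, ((((Equiv.swap a b j : Fin n) : ℕ) : ℤ) - ((j : ℕ) : ℤ))
          * (((π j : Fin n) : ℕ) : ℤ) := by
    rw [e1]
    unfold Mz
    rw [← Finset.sum_sub_distrib]
    apply Finset.sum_congr rfl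
    intro j _
    ring
  have e3 : ∑ j : Fin n, ((((Equiv.swap a b j : Fin n) : ℕ) : ℤ) - ((j : ℕ) : ℤ))
          * (((π j : Fin n) : ℕ) : ℤ)
      = ((((b : Fin n) : ℕ) : ℤ) - ((a : ℕ) : ℤ)) * (((π a : Fin n) : ℕ) : ℤ)
        + ((((a : Fin n) : ℕ) : ℤ) - ((b : ℕ) : ℤ)) * (((π b : Fin n) : ℕ) : ℤ) := by
    rw [Finset.sum_eq_add a b hne]
    · rw [Equiv.swap_apply_left, Equiv.swap_apply_right]
    · intro c _ hc
      rw [Equiv.swap_apply_of_ne_of_ne hc.1 hc.2, sub_self, zero_mul]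
    · intro h; exact absurd (Finset.mem_univ _) h
    · intro h; exact absurd (Finset.mem_univ _) h
  have hab' : (((a : Fin n) : ℕ) : ℤ) < ((b : ℕ) : ℤ) := by exact_mod_cast hab
  have hπ' : (((π b : Fin n) : ℕ) : ℤ) < (((π a : Fin n) : ℕ) : ℤ) := by exact_mod_cast h
  have : 0 < Mz (π * Equiv.swap a b) - Mz π := by
    rw [e2, e3]
    nlinarith
  linarith

/-- a permutation other than the identity has a descent at two adjacent positions -/
theorem exists_adj_descent {n : ℕ} (π : Equiv.Perm (Fin n)) (hπ : π ≠ 1) :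
    ∃ k k' : Fin n, (k : ℕ) + 1 = k' ∧ π k' < π k := by
  by_contra hcon
  push Not at hcon
  have hstep : ∀ k k' : Fin n, (k : ℕ) + 1 = k' → π k < π k' := by
    intro k k' hk
    have h1 := hcon k k' hk
    have hne : k ≠ k' := by intro e; rw [e] at hk; omega
    exact lt_of_le_of_ne h1 (fun e => hne (π.injective e))
  have hmono : ∀ d : ℕ, ∀ i j : Fin n, (i : ℕ) + d + 1 = j → π i < π j := by
    intro d
    induction d with
    | zero => intro i j hij; exact hstep i j (by omega)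
    | succ d ih =>
      intro i j hij
      have hj : (j : ℕ) - 1 < n := by have := j.2; omega
      have h1 := ih i ⟨(j : ℕ) - 1, hj⟩ (by simp only; omega)
      have h2 := hstep ⟨(j : ℕ) - 1, hj⟩ j (by simp only; omega)
      exact lt_trans h1 h2
  have hsm : StrictMono π := by
    intro i j hij
    rw [Fin.lt_def] at hij
    exact hmono ((j : ℕ) - (i : ℕ) - 1) i j (by omega)
  apply hπ
  have hle : ∀ j, π⁻¹ j ≤ j := by
    intro j
    have := hsm.id_le (π⁻¹ j)
    simpa using this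
  have := perm_eq_one_of_le π⁻¹ hle
  rw [inv_eq_one] at this
  exact this

/-- the relation for the induction -/
def MzRel {n : ℕ} (π' π : Equiv.Perm (Fin n)) : Prop := Mz π < Mz π'

theorem MzRel_wf {n : ℕ} : WellFounded (MzRel (n := n)) := by
  have : IsTrans (Equiv.Perm (Fin n)) MzRel := ⟨fun a b c hab hbc => lt_trans hbc hab⟩
  have : IsIrrefl (Equiv.Perm (Fin n)) MzRel := ⟨fun a h => lt_irrefl _ h⟩
  exact Finite.wellFounded_of_trans_of_irrefl _

theorem swap_mul_swap_rev_comm {k k' : Fin (2 * m)} (hk : (k : ℕ) < m) (hk' : (k' : ℕ) < m)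
    (b : Fin (2 * m)) :
    (Equiv.swap k k' * Equiv.swap k.rev k'.rev) b.rev
      = ((Equiv.swap k k' * Equiv.swap k.rev k'.rev) b).rev :=
  perm_rev_comm (sS_mem_SpH (F := ℚ) hk hk') (isMono_sS k k') b

theorem swap_mul_swap_rev_sq {k k' : Fin (2 * m)} (hk : (k : ℕ) < m) (hk' : (k' : ℕ) < m) :
    (Equiv.swap k k' * Equiv.swap k.rev k'.rev) * (Equiv.swap k k' * Equiv.swap k.rev k'.rev)
      = 1 := by
  have h1 := (isMono_sS (F := ℚ) k k').mul (isMono_sS (F := ℚ) k k')
  rw [← Units.val_mul, sS_mul_self hk hk'] at h1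
  exact (h1.unique (g := (1 : GL (Fin (2 * m)) ℚ)) isMono_one)

/-- every permutation commuting with the reversal is the permutation of a product of simple
reflections -/
theorem exists_mono_mem_closure (π : Equiv.Perm (Fin (2 * m)))
    (hrev : ∀ b, π b.rev = (π b).rev) :
    ∃ w ∈ Subgroup.closure (SH m F),
      IsMono ((w : GL (Fin (2 * m)) F) : Matrix (Fin (2 * m)) (Fin (2 * m)) F) π := by
  induction π using MzRel_wf.induction with
  | _ π ih =>
  by_cases hπ1 : π = 1
  · exact ⟨1, one_mem _, by rw [hπ1]; exact isMono_one⟩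
  obtain ⟨k₀, k₀', hk₀, hdesc₀⟩ := exists_adj_descent π hπ1
  -- the short case
  have short : ∀ k k' : Fin (2 * m), (k : ℕ) + 1 = k' → (k' : ℕ) < m → π k' < π k →
      ∃ w ∈ Subgroup.closure (SH m F),
        IsMono ((w : GL (Fin (2 * m)) F) : Matrix (Fin (2 * m)) (Fin (2 * m)) F) π := by
    intro k k' hk hk' hdesc
    have hkm : (k : ℕ) < m := by omega
    have hlt : k < k' := by rw [Fin.lt_def]; omega
    obtain ⟨τ, hτ⟩ : ∃ τ : Equiv.Perm (Fin (2 * m)),
        τ = Equiv.swap k k' * Equiv.swap k.rev k'.rev := ⟨_, rfl⟩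
    have hττ : τ * τ = 1 := by rw [hτ]; exact swap_mul_swap_rev_sq hkm hk'
    have hτrev : ∀ b : Fin (2 * m), τ b.rev = (τ b).rev := by
      intro b; rw [hτ]; exact swap_mul_swap_rev_comm hkm hk' b
    have hk'ne : k' ≠ k.rev := by
      intro e
      have := congrArg Fin.val e
      rw [Fin.val_rev] at this
      omega
    have hkne : k ≠ k.rev := (rev_ne_self k).symm
    have hkne' : k ≠ k'.rev := by
      intro e
      have := congrArg Fin.val e
      rw [Fin.val_rev] at this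
      omega
    have hk'ne' : k' ≠ k'.rev := (rev_ne_self k').symm
    have h1 : Mz π < Mz (π * Equiv.swap k k') := Mz_lt π hlt hdesc
    have h2 : Mz (π * Equiv.swap k k') < Mz (π * Equiv.swap k k' * Equiv.swap k'.rev k.rev) := by
      apply Mz_lt _ (Fin.rev_lt_rev.2 hlt)
      rw [Equiv.Perm.mul_apply, Equiv.Perm.mul_apply,
        Equiv.swap_apply_of_ne_of_ne hkne.symm hk'ne.symm,
        Equiv.swap_apply_of_ne_of_ne hkne'.symm hk'ne'.symm, hrev, hrev]
      exact Fin.rev_lt_rev.2 hdesc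
    have hrel : MzRel (π * τ) π := by
      unfold MzRel
      rw [hτ, ← mul_assoc, Equiv.swap_comm k.rev k'.rev]
      exact lt_trans h1 h2
    have hrev' : ∀ b : Fin (2 * m), (π * τ) b.rev = ((π * τ) b).rev := by
      intro b
      rw [Equiv.Perm.mul_apply, Equiv.Perm.mul_apply, hτrev, hrev]
    obtain ⟨w', hw', hmono'⟩ := ih (π * τ) hrel hrev'
    refine ⟨w' * sS k k', mul_mem hw' (Subgroup.subset_closure (Or.inl ⟨k, k', hk, hk', rfl⟩)), ?_⟩
    have := hmono'.mul (isMono_sS (F := F) k k')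
    rw [← hτ, mul_assoc, hττ, mul_one] at this
    rw [Units.val_mul]
    exact this
  -- the long case
  have long : ∀ k : Fin (2 * m), (k : ℕ) + 1 = m → π k.rev < π k →
      ∃ w ∈ Subgroup.closure (SH m F),
        IsMono ((w : GL (Fin (2 * m)) F) : Matrix (Fin (2 * m)) (Fin (2 * m)) F) π := by
    intro k hk hdesc
    have hlt : k < k.rev := by rw [Fin.lt_def, Fin.val_rev]; omega
    have hrel : MzRel (π * Equiv.swap k k.rev) π := Mz_lt π hlt hdesc
    have hrev' : ∀ b : Fin (2 * m),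
        (π * Equiv.swap k k.rev) b.rev = ((π * Equiv.swap k k.rev) b).rev := by
      intro b
      rw [Equiv.Perm.mul_apply, Equiv.Perm.mul_apply, swap_rev_comm, hrev]
    obtain ⟨w', hw', hmono'⟩ := ih _ hrel hrev'
    refine ⟨w' * sL k, mul_mem hw' (Subgroup.subset_closure (Or.inr ⟨k, hk, rfl⟩)), ?_⟩
    have := hmono'.mul (isMono_sL (F := F) k)
    rw [mul_assoc, Equiv.swap_mul_self, mul_one] at this
    rw [Units.val_mul]
    exact this
  by_cases hc1 : (k₀' : ℕ) < m
  · exact short k₀ k₀' hk₀ hc1 hdesc₀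
  · by_cases hc2 : (k₀ : ℕ) + 1 = m
    · have hk' : k₀' = k₀.rev := by
        apply Fin.ext
        rw [Fin.val_rev]
        omega
      rw [hk'] at hdesc₀
      exact long k₀ hc2 hdesc₀
    · have hkm : m ≤ (k₀ : ℕ) := by omega
      have hj' : ((k₀.rev : Fin (2 * m)) : ℕ) < m := by
        rw [Fin.val_rev]; have := k₀.2; omega
      apply short k₀'.rev k₀.rev (rev_adj hk₀) hj'
      rw [hrev, hrev]
      exact Fin.rev_lt_rev.2 hdesc₀

end Cfsg.Agent.Lib.Helper8.SpBN
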