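import Mathlib
import Cfsg.Agent.Lib.Helper8.SpBN.Weyl

/-!
# The upper triangular and the monomial symplectic matrices generate the transvections (helper8)
-/

set_option autoImplicit false

namespace Cfsg.Agent.Lib.Helper8.SpBN

open Matrix Cfsg Cfsg.Agent.Lib.Helper5.GLBN
open scoped MatrixGroups

variable {m : ℕ} {F : Type*} [Field F]

/-- the alternating form -/
def omega (m : ℕ) (F : Type*) [Field F] (x y : Fin (2 * m) → F) : F := x ⬝ᵥ (Jm m F *ᵥ y)

theorem mem_SpH_iff {g : GL (Fin (2 * m)) F} :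
    g ∈ SpH m F ↔ (g : Matrix (Fin (2 * m)) (Fin (2 * m)) F)ᵀ * Jm m F *
      (g : Matrix (Fin (2 * m)) (Fin (2 * m)) F) = Jm m F := by
  rw [mem_SpH, sigma_def]
  constructor
  · intro h
    have h1 : invT g * JG m F = JG m F * g := by
      calc invT g * JG m F = JG m F * ((JG m F)⁻¹ * invT g * JG m F) := by group
        _ = JG m F * g := by rw [h]
    have h2 := congrArg (fun u : GL (Fin (2 * m)) F => (u : Matrix (Fin (2 * m)) (Fin (2 * m)) F)) h1
    simp only [Units.val_mul, invT_coe, JG_coe] at h2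
    calc (g : Matrix (Fin (2 * m)) (Fin (2 * m)) F)ᵀ * Jm m F *
          (g : Matrix (Fin (2 * m)) (Fin (2 * m)) F)
        = (g : Matrix (Fin (2 * m)) (Fin (2 * m)) F)ᵀ * (Jm m F *
          (g : Matrix (Fin (2 * m)) (Fin (2 * m)) F)) := by rw [Matrix.mul_assoc]
      _ = (g : Matrix (Fin (2 * m)) (Fin (2 * m)) F)ᵀ *
          (((g⁻¹ : GL (Fin (2 * m)) F) : Matrix (Fin (2 * m)) (Fin (2 * m)) F)ᵀ * Jm m F) := by
            rw [h2]
      _ = ((g : Matrix (Fin (2 * m)) (Fin (2 * m)) F)ᵀ *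
          ((g⁻¹ : GL (Fin (2 * m)) F) : Matrix (Fin (2 * m)) (Fin (2 * m)) F)ᵀ) * Jm m F := by
            rw [Matrix.mul_assoc]
      _ = Jm m F := by
            rw [← Matrix.transpose_mul, ← Units.val_mul, inv_mul_cancel, Units.val_one,
              Matrix.transpose_one, Matrix.one_mul]
  · intro h
    have h1 : invT g * JG m F = JG m F * g := by
      apply Units.ext
      rw [Units.val_mul, Units.val_mul, invT_coe, JG_coe]
      calc ((g⁻¹ : GL (Fin (2 * m)) F) : Matrix (Fin (2 * m)) (Fin (2 * m)) F)ᵀ * Jm m F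
          = ((g⁻¹ : GL (Fin (2 * m)) F) : Matrix (Fin (2 * m)) (Fin (2 * m)) F)ᵀ *
            ((g : Matrix (Fin (2 * m)) (Fin (2 * m)) F)ᵀ * Jm m F *
              (g : Matrix (Fin (2 * m)) (Fin (2 * m)) F)) := by rw [h]
        _ = (((g⁻¹ : GL (Fin (2 * m)) F) : Matrix (Fin (2 * m)) (Fin (2 * m)) F)ᵀ *
            (g : Matrix (Fin (2 * m)) (Fin (2 * m)) F)ᵀ) * Jm m F *
              (g : Matrix (Fin (2 * m)) (Fin (2 * m)) F) := by simp only [Matrix.mul_assoc]
        _ = Jm m F * (g : Matrix (Fin (2 * m)) (Fin (2 * m)) F) := by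
            rw [← Matrix.transpose_mul, ← Units.val_mul, mul_inv_cancel, Units.val_one,
              Matrix.transpose_one, Matrix.one_mul]
    rw [mul_assoc, h1]; group

theorem omega_mulVec {g : GL (Fin (2 * m)) F} (hg : g ∈ SpH m F) (x y : Fin (2 * m) → F) :
    omega m F ((g : Matrix (Fin (2 * m)) (Fin (2 * m)) F) *ᵥ x)
      ((g : Matrix (Fin (2 * m)) (Fin (2 * m)) F) *ᵥ y) = omega m F x y := by
  unfold omega
  rw [Matrix.mulVec_mulVec, ← Matrix.vecMul_transpose (g : Matrix (Fin (2 * m)) (Fin (2 * m)) F) x,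
    ← Matrix.dotProduct_mulVec, Matrix.mulVec_mulVec, ← Matrix.mul_assoc, mem_SpH_iff.1 hg]

theorem tv_mulVec {n : ℕ} (a b : Fin n) (hab : a ≠ b) (c : F) (x : Fin n → F) (i : Fin n) :
    (((tv a b hab c : GL (Fin n) F) : Matrix (Fin n) (Fin n) F) *ᵥ x) i
      = x i + if i = a then c * x b else 0 := by
  rw [tv_coe, Matrix.transvection, Matrix.add_mulVec, Matrix.one_mulVec, Pi.add_apply,
    Matrix.single_mulVec, Function.update_apply]
  rfl

theorem tv_congr {n : ℕ} {a a' b b' : Fin n} (ha : a = a') (hb : b = b') (h : a ≠ b)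
    (h' : a' ≠ b') (c : F) : tv a b h c = tv a' b' h' c := by
  subst ha hb; rfl

/-- the symplectic root elements -/
def Xr (a b : Fin (2 * m)) (hab : a ≠ b) (c : F) : GL (Fin (2 * m)) F :=
  tv a b hab c * sigma m F (tv a b hab c)

theorem Xr_mem_SpH (a b : Fin (2 * m)) (hab : a ≠ b) (hab' : a ≠ b.rev) (c : F) :
    Xr a b hab c ∈ SpH m F := by
  apply sym_mem_SpH
  rw [sigma_tv]
  apply commute_of_suppOn _ (suppOn_tv a b hab c) (suppOn_tv _ _ _ _)
  rw [Set.disjoint_left]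
  rintro x (rfl | rfl) (h | h)
  · exact hab' h
  · exact (rev_ne_self x).symm h
  · exact (rev_ne_self x).symm h
  · apply hab'
    rw [h, Fin.rev_rev]

theorem Xr_mulVec (a b : Fin (2 * m)) (hab : a ≠ b) (c : F) (x : Fin (2 * m) → F)
    (i : Fin (2 * m)) :
    (((Xr a b hab c : GL (Fin (2 * m)) F) : Matrix (Fin (2 * m)) (Fin (2 * m)) F) *ᵥ x) i
      = x i + (if i = b.rev then -(eps m F a * eps m F b * c) * x a.rev else 0)
        + if i = a then c * x b else 0 := by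
  unfold Xr
  rw [Units.val_mul, ← Matrix.mulVec_mulVec, tv_mulVec, sigma_tv, tv_mulVec, tv_mulVec,
    if_neg (rev_ne_self b).symm, add_zero]

/-- the group generated by the upper triangular and the monomial symplectic matrices -/
def QH (m : ℕ) (F : Type*) [Field F] : Subgroup (GL (Fin (2 * m)) F) := BH m F ⊔ NH m F

theorem BH_le_QH : BH m F ≤ QH m F := le_sup_left

theorem NH_le_QH : NH m F ≤ QH m F := le_sup_right

theorem BH_le_SpH : BH m F ≤ SpH m F := inf_le_right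

theorem NH_le_SpH : NH m F ≤ SpH m F := inf_le_right

theorem QH_le_SpH : QH m F ≤ SpH m F := sup_le BH_le_SpH NH_le_SpH

theorem isMono_JG :
    IsMono ((JG m F : GL (Fin (2 * m)) F) : Matrix (Fin (2 * m)) (Fin (2 * m)) F) Fin.revPerm :=
  isMono_Jm

theorem JG_mem_SpH : JG m F ∈ SpH m F := by
  apply mem_SpH_of_mono isMono_JG
  · intro b; rfl
  · intro b
    rw [JG_coe, Fin.revPerm_apply, Fin.rev_rev, Jm_rev_apply, Jm_apply_rev, eps_rev]

theorem JG_mem_NH : JG m F ∈ NH m F := mem_NH.2 ⟨⟨_, isMono_JG⟩, JG_mem_SpH⟩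

theorem tv_conj_JG (a b : Fin (2 * m)) (hab : a ≠ b) (c : F) :
    ∃ (c' : F) (h' : a.rev ≠ b.rev),
      tv a b hab c = JG m F * tv a.rev b.rev h' c' * (JG m F)⁻¹ := by
  obtain ⟨c', hc'⟩ := tv_mul_mono (isMono_JG (m := m) (F := F)) a b hab c
  have h' : a.rev ≠ b.rev := fun h => hab (Fin.rev_injective h)
  refine ⟨c', h', ?_⟩
  have e : tv ((Fin.revPerm : Equiv.Perm (Fin (2 * m)))⁻¹ a)
      ((Fin.revPerm : Equiv.Perm (Fin (2 * m)))⁻¹ b)
      (fun h => hab ((Fin.revPerm : Equiv.Perm (Fin (2 * m)))⁻¹.injective h)) c'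
      = tv a.rev b.rev h' c' :=
    tv_congr (by rw [revPerm_inv, Fin.revPerm_apply]) (by rw [revPerm_inv, Fin.revPerm_apply]) _ _ _
  rw [e] at hc'
  calc tv a b hab c = tv a b hab c * JG m F * (JG m F)⁻¹ := by group
    _ = JG m F * tv a.rev b.rev h' c' * (JG m F)⁻¹ := by rw [hc']

theorem Xr_mem_QH (a b : Fin (2 * m)) (hab : a ≠ b) (hab' : a ≠ b.rev) (c : F) :
    Xr a b hab c ∈ QH m F := by
  have key : ∀ (a b : Fin (2 * m)) (hab : a ≠ b), a ≠ b.rev → a < b → ∀ c : F,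
      Xr a b hab c ∈ BH m F := by
    intro a b hab hab' hlt c
    refine mem_BH.2 ⟨?_, Xr_mem_SpH a b hab hab' c⟩
    have h1 : tv a b hab c ∈ upperTriangularGL (2 * m) F := tv_mem_upper hlt c
    exact mul_mem h1 (sigma_mem_upper h1)
  rcases lt_or_gt_of_ne hab with hlt | hlt
  · exact BH_le_QH (key a b hab hab' hlt c)
  · obtain ⟨c', h', hc'⟩ := tv_conj_JG a b hab c
    have h2 : Xr a b hab c = JG m F * Xr a.rev b.rev h' c' * (JG m F)⁻¹ := by
      unfold Xr
      rw [hc', map_mul, map_mul, map_inv, sigma_mem_SpH JG_mem_SpH]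
      group
    rw [h2]
    have h3 : a.rev ≠ b.rev.rev := by
      rw [Fin.rev_rev]
      intro h
      apply hab'
      rw [← h, Fin.rev_rev]
    exact mul_mem (mul_mem (NH_le_QH JG_mem_NH)
      (BH_le_QH (key a.rev b.rev h' h3 (Fin.rev_lt_rev.2 hlt) c')))
      (inv_mem (NH_le_QH JG_mem_NH))

theorem tvrev_mem_QH (a : Fin (2 * m)) (c : F) :
    tv a a.rev (rev_ne_self a).symm c ∈ QH m F := by
  rcases lt_or_gt_of_ne (rev_ne_self a).symm with hlt | hlt
  · exact BH_le_QH (mem_BH.2 ⟨tv_mem_upper hlt c, tv_rev_mem_SpH a c⟩)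
  · obtain ⟨c', h', hc'⟩ := tv_conj_JG a a.rev (rev_ne_self a).symm c
    rw [hc']
    have h4 : tv a.rev a.rev.rev h' c' ∈ BH m F :=
      mem_BH.2 ⟨tv_mem_upper (Fin.rev_lt_rev.2 hlt) c',
        tv_rev_mem_SpH' a.rev a.rev.rev rfl h' c'⟩
    exact mul_mem (mul_mem (NH_le_QH JG_mem_NH) (BH_le_QH h4)) (inv_mem (NH_le_QH JG_mem_NH))

end Cfsg.Agent.Lib.Helper8.SpBN
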