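import Mathlib
import Cfsg.Agent.Lib.Helper8.SpBN.Gen

/-!
# Symplectic transvections lie in the group generated by `B` and `N` (helper8)
-/

set_option autoImplicit false

namespace Cfsg.Agent.Lib.Helper8.SpBN

open Matrix Cfsg Cfsg.Agent.Lib.Helper5.GLBN
open scoped MatrixGroups

variable {m : ℕ} {F : Type*} [Field F]

/-- clearing the coordinates other than `i` and `rev i` -/
theorem reduce_aux (i : Fin (2 * m)) : ∀ (s : Finset (Fin (2 * m))) (v : Fin (2 * m) → F),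
    v i ≠ 0 → (∀ j, j ∉ s → j ≠ i → j ≠ i.rev → v j = 0) →
    ∃ q ∈ QH m F, ((q : Matrix (Fin (2 * m)) (Fin (2 * m)) F) *ᵥ v) i = v i ∧
      ∀ j, j ≠ i → j ≠ i.rev → ((q : Matrix (Fin (2 * m)) (Fin (2 * m)) F) *ᵥ v) j = 0 := by
  intro s
  induction s using Finset.induction_on with
  | empty =>
    intro v _ h
    refine ⟨1, one_mem _, by simp, fun j hj hj' => ?_⟩
    simpa using h j (Finset.notMem_empty j) hj hj'
  | insert j₀ s hj₀ ih =>
    intro v hvi h
    by_cases hc : j₀ = i ∨ j₀ = i.rev ∨ v j₀ = 0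
    · apply ih v hvi
      intro j hj hji hjr
      by_cases hjj : j = j₀
      · subst hjj
        rcases hc with hc | hc | hc
        · exact absurd hc hji
        · exact absurd hc hjr
        · exact hc
      · exact h j (by simp [hjj, hj]) hji hjr
    · push Not at hc
      obtain ⟨h1, h2, h3⟩ := hc
      obtain ⟨q₁, hq₁d⟩ : ∃ q₁ : GL (Fin (2 * m)) F, q₁ = Xr j₀ i h1 (-(v j₀ / v i)) := ⟨_, rfl⟩
      have hq₁ : q₁ ∈ QH m F := by rw [hq₁d]; exact Xr_mem_QH j₀ i h1 h2 _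
      obtain ⟨v', hv'd⟩ : ∃ v' : Fin (2 * m) → F,
          v' = (q₁ : Matrix (Fin (2 * m)) (Fin (2 * m)) F) *ᵥ v := ⟨_, rfl⟩
      have hv' : ∀ k, v' k = v k +
          (if k = i.rev then -(eps m F j₀ * eps m F i * -(v j₀ / v i)) * v j₀.rev else 0)
          + if k = j₀ then -(v j₀ / v i) * v i else 0 := by
        intro k; rw [hv'd, hq₁d]; exact Xr_mulVec j₀ i h1 _ v k
      have hv'i : v' i = v i := by
        rw [hv', if_neg (rev_ne_self i).symm, if_neg (Ne.symm h1), add_zero, add_zero]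
      have hv'j₀ : v' j₀ = 0 := by
        rw [hv', if_neg h2, if_pos rfl]
        field_simp
        ring
      obtain ⟨q₂, hq₂, hq2i, hq2j⟩ := ih v' (by rw [hv'i]; exact hvi) (by
        intro j hj hji hjr
        by_cases hjj : j = j₀
        · rw [hjj]; exact hv'j₀
        · rw [hv', if_neg hjr, if_neg hjj, add_zero, add_zero]
          exact h j (by simp [hjj, hj]) hji hjr)
      refine ⟨q₂ * q₁, mul_mem hq₂ hq₁, ?_, ?_⟩
      · rw [Units.val_mul, ← Matrix.mulVec_mulVec, ← hv'd, hq2i, hv'i]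
      · intro j hji hjr
        rw [Units.val_mul, ← Matrix.mulVec_mulVec, ← hv'd]
        exact hq2j j hji hjr

/-- moving a vector to a multiple of a basis vector -/
theorem reduce (v : Fin (2 * m) → F) (i : Fin (2 * m)) (hvi : v i ≠ 0) :
    ∃ q ∈ QH m F, (q : Matrix (Fin (2 * m)) (Fin (2 * m)) F) *ᵥ v = v i • Pi.single i 1 := by
  obtain ⟨q, hq, hqi, hqj⟩ := reduce_aux i Finset.univ v hvi
    (fun j hj => absurd (Finset.mem_univ j) hj)
  obtain ⟨w, hw⟩ : ∃ w : Fin (2 * m) → F,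
      w = (q : Matrix (Fin (2 * m)) (Fin (2 * m)) F) *ᵥ v := ⟨_, rfl⟩
  rw [← hw] at hqi hqj
  have hne : i.rev ≠ i.rev.rev := (rev_ne_self i.rev).symm
  refine ⟨tv i.rev i.rev.rev hne (-(w i.rev / v i)) * q,
    mul_mem (tvrev_mem_QH i.rev _) hq, ?_⟩
  funext k
  rw [Units.val_mul, ← Matrix.mulVec_mulVec, ← hw, tv_mulVec, Fin.rev_rev, hqi, Pi.smul_apply,
    Pi.single_apply, smul_eq_mul]
  by_cases hk : k = i
  · subst hk
    rw [if_neg (rev_ne_self k).symm, if_pos rfl, add_zero, hqi, mul_one]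
  · by_cases hk' : k = i.rev
    · subst hk'
      rw [if_pos rfl, if_neg hk, mul_zero]
      field_simp
      ring
    · rw [if_neg hk', if_neg hk, hqj k hk hk', add_zero, mul_zero]

theorem exists_first_ne_zero (hm : 0 < m) (v : Fin (2 * m) → F) (hv : v ≠ 0) :
    ∃ q ∈ QH m F, ((q : Matrix (Fin (2 * m)) (Fin (2 * m)) F) *ᵥ v) ⟨0, by omega⟩ ≠ 0 := by
  obtain ⟨i0, hi0⟩ : ∃ i0 : Fin (2 * m), i0 = ⟨0, by omega⟩ := ⟨_, rfl⟩
  rw [← hi0]
  by_cases h0 : v i0 ≠ 0
  · exact ⟨1, one_mem _, by simpa using h0⟩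
  · rw [not_not] at h0
    obtain ⟨i, hi⟩ := Function.ne_iff.1 hv
    rw [Pi.zero_apply] at hi
    have hii0 : i0 ≠ i := by intro e; rw [← e] at hi; exact hi h0
    by_cases hir : i = i0.rev
    · refine ⟨tv i0 i0.rev (rev_ne_self i0).symm 1, tvrev_mem_QH i0 1, ?_⟩
      rw [tv_mulVec, if_pos rfl, h0, zero_add, one_mul, ← hir]
      exact hi
    · have hir' : i0 ≠ i.rev := by
        intro e; apply hir; rw [e, Fin.rev_rev]
      refine ⟨Xr i0 i hii0 1, Xr_mem_QH i0 i hii0 hir' 1, ?_⟩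
      rw [Xr_mulVec, if_neg hir', if_pos rfl, h0, zero_add, zero_add, one_mul]
      exact hi

theorem reduce_to_first (hm : 0 < m) (v : Fin (2 * m) → F) (hv : v ≠ 0) :
    ∃ q ∈ QH m F, ∃ a : F, a ≠ 0 ∧
      (q : Matrix (Fin (2 * m)) (Fin (2 * m)) F) *ᵥ v = a • Pi.single ⟨0, by omega⟩ 1 := by
  obtain ⟨q₁, hq₁, h1⟩ := exists_first_ne_zero hm v hv
  obtain ⟨q₂, hq₂, h2⟩ := reduce ((q₁ : Matrix (Fin (2 * m)) (Fin (2 * m)) F) *ᵥ v) _ h1
  refine ⟨q₂ * q₁, mul_mem hq₂ hq₁, _, h1, ?_⟩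
  rw [Units.val_mul, ← Matrix.mulVec_mulVec, h2]

/-- an element of the symplectic group acting as a symplectic transvection lies in the group
generated by `B` and `N` -/
theorem mem_QH_of_isTv (hm : 0 < m) {g : GL (Fin (2 * m)) F} (hg : g ∈ SpH m F)
    (v : Fin (2 * m) → F) (c : F)
    (h : ∀ x, (g : Matrix (Fin (2 * m)) (Fin (2 * m)) F) *ᵥ x = x + (c * omega m F x v) • v) :
    g ∈ QH m F := by
  by_cases hv : v = 0
  · have : g = 1 := by
      apply Units.ext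
      rw [Matrix.ext_iff_mulVec]
      intro x
      rw [h x, hv, smul_zero, add_zero, Units.val_one, Matrix.one_mulVec]
    rw [this]; exact one_mem _
  obtain ⟨q, hq, a, ha, hqv⟩ := reduce_to_first hm v hv
  have hqH : q ∈ SpH m F := QH_le_SpH hq
  obtain ⟨i0, hi0⟩ : ∃ i0 : Fin (2 * m), i0 = ⟨0, by omega⟩ := ⟨_, rfl⟩
  rw [← hi0] at hqv
  obtain ⟨g', hg'⟩ : ∃ g' : GL (Fin (2 * m)) F, g' = q * g * q⁻¹ := ⟨_, rfl⟩
  have hact : ∀ x, (g' : Matrix (Fin (2 * m)) (Fin (2 * m)) F) *ᵥ x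
      = x + (c * omega m F x (a • Pi.single i0 1)) • (a • Pi.single i0 1) := by
    intro x
    obtain ⟨y, hy⟩ : ∃ y : Fin (2 * m) → F,
        y = ((q⁻¹ : GL (Fin (2 * m)) F) : Matrix (Fin (2 * m)) (Fin (2 * m)) F) *ᵥ x := ⟨_, rfl⟩
    have hqy : (q : Matrix (Fin (2 * m)) (Fin (2 * m)) F) *ᵥ y = x := by
      rw [hy, Matrix.mulVec_mulVec, ← Units.val_mul, mul_inv_cancel, Units.val_one,
        Matrix.one_mulVec]
    have hω : omega m F y v = omega m F x (a • Pi.single i0 1) := by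
      rw [← omega_mulVec hqH y v, hqy, hqv]
    rw [hg', Units.val_mul, Units.val_mul, ← Matrix.mulVec_mulVec, ← Matrix.mulVec_mulVec, ← hy,
      h y, Matrix.mulVec_add, Matrix.mulVec_smul, hqy, hqv, hω]
  have hg'H : g' ∈ SpH m F := by
    rw [hg']; exact mul_mem (mul_mem hqH hg) (inv_mem hqH)
  have hg'U : g' ∈ upperTriangularGL (2 * m) F := by
    rw [mem_upper]
    intro i j hji
    have h1 := congrFun (hact (Pi.single j 1)) i
    rw [Matrix.mulVec_single_one, Matrix.col_apply, Pi.add_apply, Pi.smul_apply, Pi.smul_apply,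
      Pi.single_apply, Pi.single_apply, if_neg (ne_of_gt hji), if_neg, smul_eq_mul, smul_eq_mul,
      mul_zero, mul_zero, add_zero] at h1
    · exact h1
    · intro e
      rw [e, hi0, Fin.lt_def] at hji
      simp at hji
  have : g = q⁻¹ * g' * q := by rw [hg']; group
  rw [this]
  exact mul_mem (mul_mem (inv_mem hq) (BH_le_QH (mem_BH.2 ⟨hg'U, hg'H⟩))) hq

end Cfsg.Agent.Lib.Helper8.SpBN
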