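import Mathlib
import Cfsg.Agent.S0765
import Cfsg.Agent.Lib.Helper8.SpBN.Gen2

/-!
# The isomorphism with Mathlib's symplectic group; generation by `B` and `N` (helper8)
-/

set_option autoImplicit false

namespace Cfsg.Agent.Lib.Helper8.SpBN

open Matrix Cfsg Cfsg.Agent.Lib.Helper5.GLBN
open scoped MatrixGroups

variable {m : ℕ} {F : Type*} [Field F]

/-- the reindexing map -/
def idxFun (m : ℕ) : Fin m ⊕ Fin m → Fin (2 * m)
  | Sum.inl i => ⟨i, by omega⟩
  | Sum.inr i => ⟨2 * m - 1 - i, by omega⟩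

/-- its inverse -/
def idxInv (m : ℕ) (k : Fin (2 * m)) : Fin m ⊕ Fin m :=
  if h : (k : ℕ) < m then Sum.inl ⟨k, h⟩ else Sum.inr ⟨2 * m - 1 - k, by omega⟩

/-- the reindexing: the first half in order, the second half reversed -/
def idxEquiv (m : ℕ) : Fin m ⊕ Fin m ≃ Fin (2 * m) where
  toFun := idxFun m
  invFun := idxInv m
  left_inv := by
    rintro (i | i)
    · have h : ((idxFun m (Sum.inl i) : Fin (2 * m)) : ℕ) < m := i.2
      exact (dif_pos h).trans rfl
    · have hi := i.2
      have h : ¬ ((idxFun m (Sum.inr i) : Fin (2 * m)) : ℕ) < m := by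
        show ¬ (2 * m - 1 - (i : ℕ) < m)
        omega
      refine (dif_neg h).trans ?_
      congr 1
      apply Fin.ext
      show 2 * m - 1 - (2 * m - 1 - (i : ℕ)) = i
      omega
  right_inv := by
    intro k
    have hk := k.2
    by_cases h : (k : ℕ) < m
    · have : idxInv m k = Sum.inl ⟨k, h⟩ := dif_pos h
      rw [this]
      rfl
    · have : idxInv m k = Sum.inr ⟨2 * m - 1 - k, by omega⟩ := dif_neg h
      rw [this]
      apply Fin.ext
      show 2 * m - 1 - (2 * m - 1 - (k : ℕ)) = k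
      omega

theorem idx_val_inl (a : Fin m) : ((idxEquiv m (Sum.inl a) : Fin (2 * m)) : ℕ) = a := rfl

theorem idx_val_inr (a : Fin m) : ((idxEquiv m (Sum.inr a) : Fin (2 * m)) : ℕ) = 2 * m - 1 - a :=
  rfl

/-- the reindexing of matrices -/
noncomputable def Rx (m : ℕ) (F : Type*) [Field F] :
    Matrix (Fin m ⊕ Fin m) (Fin m ⊕ Fin m) F ≃ₐ[F] Matrix (Fin (2 * m)) (Fin (2 * m)) F :=
  Matrix.reindexAlgEquiv F F (idxEquiv m)

theorem Rx_apply (M : Matrix (Fin m ⊕ Fin m) (Fin m ⊕ Fin m) F) (a b : Fin m ⊕ Fin m) :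
    Rx m F M (idxEquiv m a) (idxEquiv m b) = M a b := by
  unfold Rx
  rw [Matrix.coe_reindexAlgEquiv, Matrix.reindex_apply, Matrix.submatrix_apply,
    Equiv.symm_apply_apply, Equiv.symm_apply_apply]

theorem Rx_eq (M : Matrix (Fin m ⊕ Fin m) (Fin m ⊕ Fin m) F) :
    Rx m F M = M.submatrix (idxEquiv m).symm (idxEquiv m).symm := by
  unfold Rx
  rw [Matrix.coe_reindexAlgEquiv, Matrix.reindex_apply]

theorem Rx_transpose (M : Matrix (Fin m ⊕ Fin m) (Fin m ⊕ Fin m) F) :
    Rx m F Mᵀ = (Rx m F M)ᵀ := by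
  rw [Rx_eq, Rx_eq]
  rfl

theorem Rx_J : Rx m F (Matrix.J (Fin m) F) = -Jm m F := by
  ext i j
  obtain ⟨a, rfl⟩ := (idxEquiv m).surjective i
  obtain ⟨b, rfl⟩ := (idxEquiv m).surjective j
  rw [Rx_apply, Matrix.neg_apply]
  unfold Jm Matrix.J eps
  rcases a with a | a <;> rcases b with b | b
  · rw [Matrix.fromBlocks_apply₁₁, Matrix.zero_apply, if_neg, neg_zero]
    intro e
    have := congrArg Fin.val e
    rw [Fin.val_rev, idx_val_inl, idx_val_inl] at this
    have := a.2; have := b.2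
    omega
  · rw [Matrix.fromBlocks_apply₁₂, Matrix.neg_apply, Matrix.one_apply]
    have hiff : (idxEquiv m (Sum.inl a) = (idxEquiv m (Sum.inr b)).rev) ↔ a = b := by
      rw [Fin.ext_iff, Fin.val_rev, idx_val_inl, idx_val_inr, Fin.ext_iff]
      have := a.2; have := b.2
      omega
    by_cases hab : a = b
    · rw [if_pos hab, if_pos (hiff.2 hab), if_pos (by rw [idx_val_inl]; exact a.2)]
    · rw [if_neg hab, if_neg (fun h => hab (hiff.1 h))]
  · rw [Matrix.fromBlocks_apply₂₁, Matrix.one_apply]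
    have hiff : (idxEquiv m (Sum.inr a) = (idxEquiv m (Sum.inl b)).rev) ↔ a = b := by
      rw [Fin.ext_iff, Fin.val_rev, idx_val_inl, idx_val_inr, Fin.ext_iff]
      have := a.2; have := b.2
      omega
    by_cases hab : a = b
    · rw [if_pos hab, if_pos (hiff.2 hab), if_neg, neg_neg]
      rw [idx_val_inr]
      have := a.2
      omega
    · rw [if_neg hab, if_neg (fun h => hab (hiff.1 h)), neg_zero]
  · rw [Matrix.fromBlocks_apply₂₂, Matrix.zero_apply, if_neg, neg_zero]
    intro e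
    have := congrArg Fin.val e
    rw [Fin.val_rev, idx_val_inr, idx_val_inr] at this
    have := a.2; have := b.2
    omega

/-- the map from Mathlib's symplectic group -/
noncomputable def toGLH (m : ℕ) (F : Type*) [Field F] :
    ↥(Matrix.symplecticGroup (Fin m) F) →* GL (Fin (2 * m)) F :=
  (Units.map ((Rx m F).toRingEquiv.toMulEquiv.toMonoidHom)).comp
    ((Matrix.symplecticGroup (Fin m) F).subtype.toHomUnits)

theorem toGLH_coe (A : ↥(Matrix.symplecticGroup (Fin m) F)) :
    ((toGLH m F A : GL (Fin (2 * m)) F) : Matrix (Fin (2 * m)) (Fin (2 * m)) F)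
      = Rx m F (A : Matrix (Fin m ⊕ Fin m) (Fin m ⊕ Fin m) F) := rfl

theorem toGLH_mem (A : ↥(Matrix.symplecticGroup (Fin m) F)) : toGLH m F A ∈ SpH m F := by
  rw [mem_SpH_iff, toGLH_coe]
  have h := SymplecticGroup.mem_iff'.1 A.2
  have h2 := congrArg (Rx m F) h
  rw [map_mul, map_mul, Rx_transpose, Rx_J] at h2
  rw [Matrix.mul_neg, Matrix.neg_mul] at h2
  exact neg_injective h2

theorem toGLH_injective : Function.Injective (toGLH m F) := by
  intro A B h
  apply Subtype.ext
  have := congrArg (fun u : GL (Fin (2 * m)) F => (u : Matrix (Fin (2 * m)) (Fin (2 * m)) F)) h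
  simp only [toGLH_coe] at this
  exact (Rx m F).injective this

theorem toGLH_surjective {g : GL (Fin (2 * m)) F} (hg : g ∈ SpH m F) :
    ∃ A : ↥(Matrix.symplecticGroup (Fin m) F), toGLH m F A = g := by
  have hA : (Rx m F).symm (g : Matrix (Fin (2 * m)) (Fin (2 * m)) F)
      ∈ Matrix.symplecticGroup (Fin m) F := by
    rw [SymplecticGroup.mem_iff']
    apply (Rx m F).injective
    rw [map_mul, map_mul, Rx_transpose, Rx_J, AlgEquiv.apply_symm_apply, Matrix.mul_neg,
      Matrix.neg_mul, mem_SpH_iff.1 hg]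
  refine ⟨⟨_, hA⟩, ?_⟩
  apply Units.ext
  rw [toGLH_coe]
  exact (Rx m F).apply_symm_apply _

/-- **The isomorphism between Mathlib's symplectic group and the fixed points of `sigma`.** -/
noncomputable def spIso (m : ℕ) (F : Type*) [Field F] :
    ↥(Matrix.symplecticGroup (Fin m) F) ≃* ↥(SpH m F) :=
  MulEquiv.ofBijective ((toGLH m F).codRestrict (SpH m F) toGLH_mem)
    ⟨fun A B h => toGLH_injective (congrArg Subtype.val h),
      fun g => by
        obtain ⟨A, hA⟩ := toGLH_surjective g.2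
        exact ⟨A, Subtype.ext hA⟩⟩

theorem spIso_coe (A : ↥(Matrix.symplecticGroup (Fin m) F)) :
    ((spIso m F A : ↥(SpH m F)) : GL (Fin (2 * m)) F) = toGLH m F A := rfl

/-- the image of a symplectic transvection acts as a symplectic transvection -/
theorem toGLH_transvection_mulVec (A : ↥(Matrix.symplecticGroup (Fin m) F))
    (w : Fin m ⊕ Fin m → F) (c : F)
    (hA : (A : Matrix (Fin m ⊕ Fin m) (Fin m ⊕ Fin m) F) = Cfsg.sympTransvection m w c)
    (x : Fin (2 * m) → F) :
    ((toGLH m F A : GL (Fin (2 * m)) F) : Matrix (Fin (2 * m)) (Fin (2 * m)) F) *ᵥ x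
      = x + (-c * omega m F x (w ∘ (idxEquiv m).symm)) • (w ∘ (idxEquiv m).symm) := by
  rw [toGLH_coe, Rx_eq, Matrix.submatrix_mulVec_equiv, Equiv.symm_symm, hA,
    Cfsg.Agent.Lib.Helper5.Symp.sympTransvection_mulVec]
  have h1 : Cfsg.sympForm m F (x ∘ (idxEquiv m)) w
      = - omega m F x (w ∘ (idxEquiv m).symm) := by
    unfold Cfsg.sympForm omega
    have hJ : Jm m F = -Rx m F (Matrix.J (Fin m) F) := by rw [Rx_J, neg_neg]
    rw [hJ, Rx_eq, Matrix.neg_mulVec, Matrix.submatrix_mulVec_equiv, Equiv.symm_symm,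
      dotProduct_neg, neg_neg, dotProduct_comp_equiv_symm]
    congr 2
    funext a
    simp
  rw [h1]
  funext k
  simp only [Function.comp_apply, Pi.add_apply, Pi.smul_apply, smul_eq_mul,
    Equiv.apply_symm_apply]
  ring

theorem SpH_le_QH (hm : 0 < m) : SpH m F ≤ QH m F := by
  intro g hg
  obtain ⟨A, rfl⟩ := toGLH_surjective hg
  have hA : A ∈ Subgroup.closure {A : Matrix.symplecticGroup (Fin m) F |
      ∃ (w : Fin m ⊕ Fin m → F) (c : F),
        (A : Matrix (Fin m ⊕ Fin m) (Fin m ⊕ Fin m) F) = Cfsg.sympTransvection m w c} := by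
    rw [Cfsg.Agent.S0765.result]; trivial
  induction hA using Subgroup.closure_induction with
  | mem A hA =>
    obtain ⟨w, c, hwc⟩ := hA
    exact mem_QH_of_isTv hm (toGLH_mem A) _ (-c) (toGLH_transvection_mulVec A w c hwc)
  | one => rw [map_one]; exact one_mem _
  | mul A B _ _ hA hB => rw [map_mul]; exact mul_mem (hA (toGLH_mem A)) (hB (toGLH_mem B))
  | inv A _ hA => rw [map_inv]; exact inv_mem (hA (toGLH_mem A))

end Cfsg.Agent.Lib.Helper8.SpBN
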