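import Mathlib
import Cfsg.Agent.Lib.Helper8.SpBN.Iso

/-!
# The (B,N)-pair of the symplectic group (helper8)
-/

set_option autoImplicit false

namespace Cfsg.Agent.Lib.Helper8.SpBN

open Matrix Cfsg Cfsg.Agent.Lib.Helper5.GLBN DoubleCoset
open scoped MatrixGroups

variable {m : ℕ} {F : Type*} [Field F]

/-- the Borel subgroup -/
def BG (m : ℕ) (F : Type*) [Field F] : Subgroup ↥(SpH m F) := (BH m F).subgroupOf (SpH m F)

/-- the monomial subgroup -/
def NG (m : ℕ) (F : Type*) [Field F] : Subgroup ↥(SpH m F) := (NH m F).subgroupOf (SpH m F)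

/-- the simple reflections -/
def SG (m : ℕ) (F : Type*) [Field F] : Set ↥(SpH m F) := {s | (s : GL (Fin (2 * m)) F) ∈ SH m F}

theorem mem_BG {g : ↥(SpH m F)} :
    g ∈ BG m F ↔ (g : GL (Fin (2 * m)) F) ∈ upperTriangularGL (2 * m) F := by
  unfold BG
  rw [Subgroup.mem_subgroupOf, mem_BH]
  exact ⟨fun h => h.1, fun h => ⟨h, g.2⟩⟩

theorem mem_BG' {g : ↥(SpH m F)} : g ∈ BG m F ↔ (g : GL (Fin (2 * m)) F) ∈ BH m F :=
  Subgroup.mem_subgroupOf

theorem mem_NG {g : ↥(SpH m F)} :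
    g ∈ NG m F ↔ (g : GL (Fin (2 * m)) F) ∈ monoN (2 * m) F := by
  unfold NG
  rw [Subgroup.mem_subgroupOf, mem_NH]
  exact ⟨fun h => h.1, fun h => ⟨h, g.2⟩⟩

theorem mem_NG' {g : ↥(SpH m F)} : g ∈ NG m F ↔ (g : GL (Fin (2 * m)) F) ∈ NH m F :=
  Subgroup.mem_subgroupOf

theorem sup_eq_top_aux (hm : 0 < m) : BG m F ⊔ NG m F = ⊤ := by
  unfold BG NG
  rw [← Subgroup.subgroupOf_sup BH_le_SpH NH_le_SpH, Subgroup.subgroupOf_eq_top]
  exact SpH_le_QH hm

theorem sL_mul_self_mem_upper (k : Fin (2 * m)) :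
    (sL k : GL (Fin (2 * m)) F) * sL k ∈ upperTriangularGL (2 * m) F := by
  apply mem_upper_of_isMono_one
  have := (isMono_sL (F := F) k).mul (isMono_sL (F := F) k)
  rw [Equiv.swap_mul_self] at this
  rw [Units.val_mul]
  exact this

theorem sq_mem_aux (s : ↥(SpH m F)) (hs : s ∈ SG m F) : s * s ∈ BG m F := by
  rw [mem_BG, Subgroup.coe_mul]
  rcases hs with ⟨k, k', hk, hk', h⟩ | ⟨k, hk, h⟩
  · rw [h, sS_mul_self (by omega) hk']; exact one_mem _
  · rw [h]; exact sL_mul_self_mem_upper k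

theorem swap_rev_of_lt {l l' x : Fin (2 * m)} (hl : (l : ℕ) < m) (hl' : (l' : ℕ) < m)
    (hx : (x : ℕ) < m) : Equiv.swap l.rev l'.rev x = x := by
  apply Equiv.swap_apply_of_ne_of_ne
  · intro e
    have := congrArg Fin.val e
    rw [Fin.val_rev] at this
    omega
  · intro e
    have := congrArg Fin.val e
    rw [Fin.val_rev] at this
    omega

theorem inj_aux (s : ↥(SpH m F)) (hs : s ∈ SG m F) (s' : ↥(SpH m F)) (hs' : s' ∈ SG m F)
    (h : s⁻¹ * s' ∈ BG m F) : s = s' := by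
  rw [mem_BG, Subgroup.coe_mul, Subgroup.coe_inv] at h
  apply Subtype.ext
  -- the permutations agree
  have key : ∀ (τ τ' : Equiv.Perm (Fin (2 * m))),
      IsMono ((s : GL (Fin (2 * m)) F) : Matrix (Fin (2 * m)) (Fin (2 * m)) F) τ →
      IsMono ((s' : GL (Fin (2 * m)) F) : Matrix (Fin (2 * m)) (Fin (2 * m)) F) τ' → τ = τ' := by
    intro τ τ' hτ hτ'
    have h1 := hτ.inv.mul hτ'
    rw [← Units.val_mul] at h1
    have h2 := perm_eq_one_of_upper h1 h
    rw [inv_mul_eq_one] at h2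
    exact h2
  rcases hs with ⟨k, k', hk, hk', e⟩ | ⟨k, hk, e⟩ <;>
  rcases hs' with ⟨l, l', hl, hl', e'⟩ | ⟨l, hl, e'⟩
  · have hτ := key _ _ (e ▸ isMono_sS (F := F) k k') (e' ▸ isMono_sS (F := F) l l')
    have hkm : (k : ℕ) < m := by omega
    have hlm : (l : ℕ) < m := by omega
    have h1 := congrArg (fun τ : Equiv.Perm (Fin (2 * m)) => τ k) hτ
    simp only [Equiv.Perm.mul_apply] at h1
    rw [swap_rev_of_lt hkm hk' hkm, swap_rev_of_lt hlm hl' hkm, Equiv.swap_apply_left,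
      Equiv.swap_apply_def] at h1
    have hkl : k = l := by
      by_cases h2 : k = l
      · exact h2
      · rw [if_neg h2] at h1
        by_cases h3 : k = l'
        · rw [if_pos h3] at h1
          exfalso
          have a1 := congrArg Fin.val h1
          have a2 := congrArg Fin.val h3
          omega
        · rw [if_neg h3] at h1
          exfalso
          have a1 := congrArg Fin.val h1
          omega
    subst hkl
    have : k' = l' := Fin.ext (by omega)
    subst this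
    rw [e, e']
  · exfalso
    have hτ := key _ _ (e ▸ isMono_sS (F := F) k k') (e' ▸ isMono_sL (F := F) l)
    have hkm : (k : ℕ) < m := by omega
    have h1 := congrArg (fun τ : Equiv.Perm (Fin (2 * m)) => τ k) hτ
    simp only [Equiv.Perm.mul_apply] at h1
    rw [swap_rev_of_lt hkm hk' hkm, Equiv.swap_apply_left, Equiv.swap_apply_def] at h1
    by_cases h2 : k = l
    · rw [if_pos h2] at h1
      have a1 := congrArg Fin.val h1
      rw [Fin.val_rev] at a1
      omega
    · rw [if_neg h2] at h1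
      by_cases h3 : k = l.rev
      · have a2 := congrArg Fin.val h3
        rw [Fin.val_rev] at a2
        omega
      · rw [if_neg h3] at h1
        have a1 := congrArg Fin.val h1
        omega
  · exfalso
    have hτ := key _ _ (e ▸ isMono_sL (F := F) k) (e' ▸ isMono_sS (F := F) l l')
    have hlm : (l : ℕ) < m := by omega
    have h1 := congrArg (fun τ : Equiv.Perm (Fin (2 * m)) => τ l) hτ
    simp only [Equiv.Perm.mul_apply] at h1
    rw [swap_rev_of_lt hlm hl' hlm, Equiv.swap_apply_left, Equiv.swap_apply_def] at h1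
    by_cases h2 : l = k
    · rw [if_pos h2] at h1
      have a1 := congrArg Fin.val h1
      rw [Fin.val_rev] at a1
      omega
    · rw [if_neg h2] at h1
      by_cases h3 : l = k.rev
      · have a2 := congrArg Fin.val h3
        rw [Fin.val_rev] at a2
        omega
      · rw [if_neg h3] at h1
        have a1 := congrArg Fin.val h1
        omega
  · have : k = l := Fin.ext (by omega)
    subst this
    rw [e, e']

theorem closure_SG_map :
    (Subgroup.closure (SG m F)).map (SpH m F).subtype = Subgroup.closure (SH m F) := by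
  rw [MonoidHom.map_closure]
  congr 1
  ext g
  constructor
  · rintro ⟨s, hs, rfl⟩; exact hs
  · intro hg; exact ⟨⟨g, SH_subset_SpH hg⟩, hg, rfl⟩

theorem closure_sup_aux' : Subgroup.closure (SG m F) ⊔ (BG m F ⊓ NG m F) = NG m F := by
  apply le_antisymm
  · apply sup_le
    · rw [Subgroup.closure_le]
      intro s hs
      exact mem_NG.2 (SH_subset_monoN hs)
    · exact inf_le_right
  · intro n hn
    obtain ⟨π, hπ⟩ := mem_NG.1 hn
    have hrev := perm_rev_comm n.2 hπ
    obtain ⟨w, hw, hwπ⟩ := exists_mono_mem_closure (F := F) π hrev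
    rw [← closure_SG_map] at hw
    obtain ⟨w', hw', rfl⟩ := hw
    have hd : IsMono (((w'⁻¹ * n : ↥(SpH m F)) : GL (Fin (2 * m)) F) :
        Matrix (Fin (2 * m)) (Fin (2 * m)) F) 1 := by
      have h1 := hwπ.inv.mul hπ
      rw [inv_mul_cancel] at h1
      rw [Subgroup.coe_mul, Subgroup.coe_inv, Units.val_mul]
      exact h1
    have : n = w' * (w'⁻¹ * n) := by group
    rw [this]
    exact mul_mem (Subgroup.mem_sup_left hw') (Subgroup.mem_sup_right
      ⟨mem_BG.2 (mem_upper_of_isMono_one hd), mem_NG.2 ⟨1, hd⟩⟩)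

theorem mul_mem_union_aux' (s : ↥(SpH m F)) (hs : s ∈ SG m F) (n : ↥(SpH m F))
    (hn : n ∈ NG m F) (b : ↥(SpH m F)) (hb : b ∈ BG m F) :
    s * b * n ∈ doubleCoset (s * n) (BG m F : Set ↥(SpH m F)) (BG m F) ∪
      doubleCoset n (BG m F : Set ↥(SpH m F)) (BG m F) := by
  have hb' := mem_BG'.1 hb
  have hn' := mem_NG'.1 hn
  have key : ∃ β ∈ BH m F, ∃ β' ∈ BH m F,
      (s : GL (Fin (2 * m)) F) * b * n = β * ((s : GL (Fin (2 * m)) F) * n) * β' ∨
        (s : GL (Fin (2 * m)) F) * b * n = β * n * β' := by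
    rcases hs with ⟨k, k', hk, hk', e⟩ | ⟨k, hk, e⟩
    · rw [e]; exact T1_short hk hk' hb' hn'
    · rw [e]; exact T1_long hk hb' hn'
  obtain ⟨β, hβ, β', hβ', h | h⟩ := key
  · left
    rw [mem_doubleCoset]
    refine ⟨⟨β, BH_le_SpH hβ⟩, mem_BG'.2 hβ, ⟨β', BH_le_SpH hβ'⟩, mem_BG'.2 hβ', ?_⟩
    apply Subtype.ext
    simpa using h
  · right
    rw [mem_doubleCoset]
    refine ⟨⟨β, BH_le_SpH hβ⟩, mem_BG'.2 hβ, ⟨β', BH_le_SpH hβ'⟩, mem_BG'.2 hβ', ?_⟩
    apply Subtype.ext
    simpa using h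

theorem perm_conj_apply {n : ℕ} (τ : Equiv.Perm (Fin n)) (g : GL (Fin n) F) (i j : Fin n) :
    ((permGL τ * g * permGL τ : GL (Fin n) F) : Matrix (Fin n) (Fin n) F) i j
      = (g : Matrix (Fin n) (Fin n) F) (τ⁻¹ i) (τ j) := by
  rw [Units.val_mul, Units.val_mul, permGL_coe, mul_pm_apply, pm_mul_apply]

theorem sL_conj_apply (k : Fin (2 * m)) (g : GL (Fin (2 * m)) F) (i j : Fin (2 * m)) :
    ((sL k * g * sL k : GL (Fin (2 * m)) F) : Matrix (Fin (2 * m)) (Fin (2 * m)) F) i j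
      = dLfun k i * ((g : Matrix (Fin (2 * m)) (Fin (2 * m)) F) (Equiv.swap k k.rev i)
          (Equiv.swap k k.rev j) * dLfun k (Equiv.swap k k.rev j)) := by
  unfold sL
  simp only [Units.val_mul, dL_coe, permGL_coe]
  rw [Matrix.mul_assoc, Matrix.mul_assoc, Matrix.diagonal_mul, pm_mul_apply, ← Matrix.mul_assoc,
    mul_pm_apply, Matrix.mul_diagonal, Equiv.swap_inv]

theorem conj_ne_aux (s : ↥(SpH m F)) (hs : s ∈ SG m F) :
    (fun b : ↥(SpH m F) => s * b * s) '' (BG m F : Set ↥(SpH m F))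
      ≠ (BG m F : Set ↥(SpH m F)) := by
  intro heq
  rcases hs with ⟨k, k', hk, hk', e⟩ | ⟨k, hk, e⟩
  · have hkm : (k : ℕ) < m := by omega
    have hlt : k < k' := by rw [Fin.lt_def]; omega
    have hne : k ≠ k' := ne_of_lt hlt
    have hk'ne : k' ≠ k.rev := by
      intro e
      have := congrArg Fin.val e
      rw [Fin.val_rev] at this
      omega
    have hk'ne' : k ≠ k'.rev := by
      intro e
      have := congrArg Fin.val e
      rw [Fin.val_rev] at this
      omega
    have hXH : Xr k k' hne (1 : F) ∈ SpH m F := Xr_mem_SpH k k' hne hk'ne' 1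
    have hXB : (⟨Xr k k' hne (1 : F), hXH⟩ : ↥(SpH m F)) ∈ BG m F := by
      rw [mem_BG]
      have h1 : tv k k' hne (1 : F) ∈ upperTriangularGL (2 * m) F := tv_mem_upper hlt 1
      exact mul_mem h1 (sigma_mem_upper h1)
    have hmem : s * ⟨Xr k k' hne (1 : F), hXH⟩ * s ∈ (BG m F : Set ↥(SpH m F)) := by
      rw [← heq]; exact ⟨_, hXB, rfl⟩
    have hval : ((s * ⟨Xr k k' hne (1 : F), hXH⟩ * s : ↥(SpH m F)) : GL (Fin (2 * m)) F)
        = permGL (Equiv.swap k k' * Equiv.swap k.rev k'.rev) * Xr k k' hne (1 : F)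
          * permGL (Equiv.swap k k' * Equiv.swap k.rev k'.rev) := by
      rw [Subgroup.coe_mul, Subgroup.coe_mul, e, map_mul]
      rfl
    have h0 := (mem_upper.1 (mem_BG.1 hmem)) k' k hlt
    have hτ1 : (Equiv.swap k k' * Equiv.swap k.rev k'.rev)⁻¹ k' = k := by
      rw [_root_.mul_inv_rev, Equiv.swap_inv, Equiv.swap_inv, Equiv.Perm.mul_apply,
        Equiv.swap_apply_right, swap_rev_of_lt hkm hk' hkm]
    have hτ2 : (Equiv.swap k k' * Equiv.swap k.rev k'.rev) k = k' := by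
      rw [Equiv.Perm.mul_apply, swap_rev_of_lt hkm hk' hkm, Equiv.swap_apply_left]
    rw [hval, perm_conj_apply, hτ1, hτ2] at h0
    unfold Xr at h0
    rw [sigma_tv, Units.val_mul, tv_coe, tv_coe, mul_transvection_apply_of_ne _ _ _ _ hk'ne,
      transvection_apply, if_neg hne, if_pos ⟨rfl, rfl⟩, zero_add] at h0
    exact one_ne_zero h0
  · have hlt : k < k.rev := by rw [Fin.lt_def, Fin.val_rev]; omega
    have hne : k ≠ k.rev := ne_of_lt hlt
    have hxH : tv k k.rev hne (1 : F) ∈ SpH m F := tv_rev_mem_SpH' k k.rev rfl hne 1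
    have hxB : (⟨tv k k.rev hne (1 : F), hxH⟩ : ↥(SpH m F)) ∈ BG m F := by
      rw [mem_BG]; exact tv_mem_upper hlt 1
    have hmem : s * ⟨tv k k.rev hne (1 : F), hxH⟩ * s ∈ (BG m F : Set ↥(SpH m F)) := by
      rw [← heq]; exact ⟨_, hxB, rfl⟩
    have hval : ((s * ⟨tv k k.rev hne (1 : F), hxH⟩ * s : ↥(SpH m F)) : GL (Fin (2 * m)) F)
        = sL k * tv k k.rev hne (1 : F) * sL k := by
      rw [Subgroup.coe_mul, Subgroup.coe_mul, e]
    have h0 := (mem_upper.1 (mem_BG.1 hmem)) k.rev k hlt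
    rw [hval, sL_conj_apply, Equiv.swap_apply_right, Equiv.swap_apply_left, tv_coe,
      transvection_apply, if_neg hne, if_pos ⟨rfl, rfl⟩, zero_add] at h0
    unfold dLfun at h0
    rw [if_pos rfl] at h0
    norm_num at h0

/-- **The (B,N)-pair of the symplectic group.** -/
def spBN (m : ℕ) (F : Type*) [Field F] (hm : 0 < m) : Cfsg.BNPair ↥(SpH m F) where
  B := BG m F
  N := NG m F
  S := SG m F
  sup_eq_top := sup_eq_top_aux hm
  conj_mem := by
    intro n hn t ht
    rw [mem_BG, Subgroup.coe_mul, Subgroup.coe_mul, Subgroup.coe_inv]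
    exact (glBN (2 * m) F).conj_mem _ (mem_NG.1 hn) _ ⟨mem_BG.1 ht.1, mem_NG.1 ht.2⟩
  subset := fun s hs => mem_NG.2 (SH_subset_monoN hs)
  sq_mem := sq_mem_aux
  inj := inj_aux
  closure_sup := closure_sup_aux'
  mul_mem_union := mul_mem_union_aux'
  conj_ne := conj_ne_aux

end Cfsg.Agent.Lib.Helper8.SpBN
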