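import Mathlib
import Cfsg.Agent.Lib.Helper8.SpBN.Pair

/-!
# Rank one identities in the symplectic group (helper8)
-/

set_option autoImplicit false

namespace Cfsg.Agent.Lib.Helper8.SpBN

open Matrix Cfsg Cfsg.Agent.Lib.Helper5.GLBN DoubleCoset
open scoped MatrixGroups

variable {m : ℕ} {F : Type*} [Field F]

theorem rank_one_short {k k' : Fin (2 * m)} (hk : (k : ℕ) + 1 = k') (hk' : (k' : ℕ) < m)
    (hne : k ≠ k') (t : F) (ht : t ≠ 0) :
    sS k k' * Xr k k' hne t * Xr k' k hne.symm (-(1 / t)) ∈ BH m F := by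
  have hkm : (k : ℕ) < m := by omega
  have hd := disj_aux hkm hk'
  have heps : eps m F k = eps m F k' := eps_eq_of_lt hkm hk'
  have hk'ne : k' ≠ k.rev := by
    intro e
    have := congrArg Fin.val e
    rw [Fin.val_rev] at this
    omega
  have hk'ne' : k ≠ k'.rev := by
    intro e
    have := congrArg Fin.val e
    rw [Fin.val_rev] at this
    omega
  obtain ⟨ŝ, hŝ⟩ : ∃ ŝ : GL (Fin (2 * m)) F, ŝ = permGL (Equiv.swap k k') := ⟨_, rfl⟩
  obtain ⟨ŝ', hŝ'⟩ : ∃ ŝ' : GL (Fin (2 * m)) F, ŝ' = permGL (Equiv.swap k.rev k'.rev) := ⟨_, rfl⟩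
  have hσŝ : sigma m F ŝ = ŝ' := by rw [hŝ, hŝ']; exact sigma_swap heps
  have hRŝ' : SuppOn ({k.rev, k'.rev} : Set (Fin (2 * m)))
      (ŝ' : Matrix (Fin (2 * m)) (Fin (2 * m)) F) := by
    rw [hŝ']; exact suppOn_swap _ _
  have hs : (sS k k' : GL (Fin (2 * m)) F) = ŝ * ŝ' := by rw [hŝ, hŝ']; rfl
  obtain ⟨x, hx⟩ : ∃ x : GL (Fin (2 * m)) F, x = tv k k' hne t := ⟨_, rfl⟩
  have hσx : sigma m F x = tv k'.rev k.rev (fun h => hne (Fin.rev_injective h).symm)
      (-(eps m F k * eps m F k' * t)) := by rw [hx]; exact sigma_tv k k' hne t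
  have hLx : SuppOn ({k, k'} : Set (Fin (2 * m))) (x : Matrix (Fin (2 * m)) (Fin (2 * m)) F) := by
    rw [hx]; exact suppOn_tv _ _ _ _
  have hRσx : SuppOn ({k.rev, k'.rev} : Set (Fin (2 * m)))
      ((sigma m F x : GL (Fin (2 * m)) F) : Matrix (Fin (2 * m)) (Fin (2 * m)) F) := by
    rw [hσx]; exact suppOn_pair_comm (suppOn_tv _ _ _ _)
  obtain ⟨y, hy⟩ : ∃ y : GL (Fin (2 * m)) F, y = tv k' k hne.symm (-(1 / t)) := ⟨_, rfl⟩
  have hLy : SuppOn ({k, k'} : Set (Fin (2 * m)))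
      (y : Matrix (Fin (2 * m)) (Fin (2 * m)) F) := by
    rw [hy]; exact suppOn_pair_comm (suppOn_tv _ _ _ _)
  obtain ⟨r, hr⟩ : ∃ r : GL (Fin (2 * m)) F, r = ŝ * x * y := ⟨_, rfl⟩
  have hrU : r ∈ upperTriangularGL (2 * m) F := by
    rw [hr, hŝ, hx, hy]; exact sl2_upper hk hne t ht
  have hR : r * sigma m F r = sS k k' * Xr k k' hne t * Xr k' k hne.symm (-(1 / t)) := by
    unfold Xr
    rw [← hx, ← hy, hr, map_mul, map_mul, hσŝ, hs]
    have c1 : x * ŝ' = ŝ' * x := commute_of_suppOn hd hLx hRŝ'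
    have c2 : y * ŝ' = ŝ' * y := commute_of_suppOn hd hLy hRŝ'
    have c3 : y * sigma m F x = sigma m F x * y := commute_of_suppOn hd hLy hRσx
    calc ŝ * x * y * (ŝ' * sigma m F x * sigma m F y)
        = ŝ * x * (y * ŝ') * sigma m F x * sigma m F y := by group
      _ = ŝ * x * (ŝ' * y) * sigma m F x * sigma m F y := by rw [c2]
      _ = ŝ * (x * ŝ') * (y * sigma m F x) * sigma m F y := by group
      _ = ŝ * (ŝ' * x) * (sigma m F x * y) * sigma m F y := by rw [c1, c3]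
      _ = ŝ * ŝ' * (x * sigma m F x) * (y * sigma m F y) := by group
  refine mem_BH.2 ⟨?_, ?_⟩
  · rw [← hR]; exact mul_mem hrU (sigma_mem_upper hrU)
  · exact mul_mem (mul_mem (sS_mem_SpH hkm hk') (Xr_mem_SpH k k' hne hk'ne' t))
      (Xr_mem_SpH k' k hne.symm hk'ne _)

theorem rank_one_long {k : Fin (2 * m)} (hk : (k : ℕ) + 1 = m) (hne : k ≠ k.rev) (t : F)
    (ht : t ≠ 0) :
    sL k * tv k k.rev hne t * tv k.rev k hne.symm (-(1 / t)) ∈ BH m F := by
  have hk2 : (k : ℕ) + 1 = (k.rev : Fin (2 * m)) := by rw [Fin.val_rev]; omega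
  refine mem_BH.2 ⟨?_, ?_⟩
  · have h1 : permGL (Equiv.swap k k.rev) * tv k k.rev hne t * tv k.rev k hne.symm (-(1 / t))
        ∈ upperTriangularGL (2 * m) F := sl2_upper hk2 hne t ht
    have : (sL k : GL (Fin (2 * m)) F) * tv k k.rev hne t * tv k.rev k hne.symm (-(1 / t))
        = dL k * (permGL (Equiv.swap k k.rev) * tv k k.rev hne t *
          tv k.rev k hne.symm (-(1 / t))) := by
      unfold sL; group
    rw [this]
    exact mul_mem (dL_mem_upper k) h1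
  · exact mul_mem (mul_mem (sL_mem_SpH k) (tv_rev_mem_SpH' k k.rev rfl hne t))
      (tv_rev_mem_SpH' k.rev k (Fin.rev_rev k).symm hne.symm _)

/-- conjugating a root element by the form -/
theorem Xr_conj_JG (a b : Fin (2 * m)) (hab : a ≠ b) (c : F) :
    ∃ (c' : F) (h' : a.rev ≠ b.rev),
      (JG m F)⁻¹ * Xr a b hab c * JG m F = Xr a.rev b.rev h' c' := by
  obtain ⟨c', h', hc'⟩ := tv_conj_JG a b hab c
  refine ⟨c', h', ?_⟩
  unfold Xr
  rw [hc', map_mul, map_mul, map_inv, sigma_mem_SpH JG_mem_SpH]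
  group

theorem tv_conj_JG' (a b : Fin (2 * m)) (hab : a ≠ b) (c : F) :
    ∃ (c' : F) (h' : a.rev ≠ b.rev),
      (JG m F)⁻¹ * tv a b hab c * JG m F = tv a.rev b.rev h' c' := by
  obtain ⟨c', h', hc'⟩ := tv_conj_JG a b hab c
  refine ⟨c', h', ?_⟩
  rw [hc']
  group

end Cfsg.Agent.Lib.Helper8.SpBN
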