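import Mathlib
import Cfsg.Agent.Lib.Helper8.SpBN.Rank1
import Cfsg.Agent.Lib.Helper5.BNFix
import Cfsg.Agent.Lib.Helper5.BNSteinberg

/-!
# The alternating sum of parabolic permutation characters of the symplectic group (helper8)
-/

set_option autoImplicit false

namespace Cfsg.Agent.Lib.Helper8.SpBN

open Matrix Cfsg Cfsg.Agent.Lib.Helper5.GLBN Cfsg.Agent.Lib.Helper5.BN DoubleCoset
open scoped MatrixGroups

variable {m : ℕ} {F : Type*} [Field F]

/-- the `j`-th simple reflection (`1` if out of range) -/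
noncomputable def sGL (m : ℕ) (F : Type*) [Field F] (j : ℕ) : GL (Fin (2 * m)) F :=
  if h : j + 1 < m then sS ⟨j, by omega⟩ ⟨j + 1, by omega⟩
  else if h' : j + 1 = m then sL ⟨j, by omega⟩ else 1

theorem sGL_mem_SH {j : ℕ} (h : j < m) : sGL m F j ∈ SH m F := by
  unfold sGL
  by_cases h1 : j + 1 < m
  · rw [dif_pos h1]
    exact Or.inl ⟨_, _, rfl, h1, rfl⟩
  · have h2 : j + 1 = m := by omega
    rw [dif_neg h1, dif_pos h2]
    exact Or.inr ⟨_, h2, rfl⟩

theorem sGL_mem_SpH (j : ℕ) : sGL m F j ∈ SpH m F := by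
  by_cases h : j < m
  · exact SH_subset_SpH (sGL_mem_SH h)
  · unfold sGL
    rw [dif_neg (by omega), dif_neg (by omega)]
    exact one_mem _

theorem sGL_mem_monoN (j : ℕ) : sGL m F j ∈ monoN (2 * m) F := by
  by_cases h : j < m
  · exact SH_subset_monoN (sGL_mem_SH h)
  · unfold sGL
    rw [dif_neg (by omega), dif_neg (by omega)]
    exact one_mem _

/-- the `j`-th simple reflection as an element of the symplectic group -/
noncomputable def sG (m : ℕ) (F : Type*) [Field F] (j : ℕ) : ↥(SpH m F) :=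
  ⟨sGL m F j, sGL_mem_SpH j⟩

variable (hm : 0 < m)

/-- the longest element -/
def n0 (hm : 0 < m) : (spBN m F hm).N :=
  ⟨⟨(JG m F)⁻¹, inv_mem JG_mem_SpH⟩, mem_NG'.2 (inv_mem JG_mem_NH)⟩

theorem n0_coe : (((n0 hm : (spBN m F hm).N) : ↥(SpH m F)) : GL (Fin (2 * m)) F) = (JG m F)⁻¹ :=
  rfl

/-- for every simple reflection there is an element of its double coset which the longest
element conjugates into `B` -/
theorem lower_elt (ns : ↥(SpH m F)) (hns : ns ∈ SG m F) :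
    ∃ t : ↥(SpH m F), t ∈ D (spBN m F hm) ns ∧
      ((n0 hm : (spBN m F hm).N) : ↥(SpH m F)) * t * ((n0 hm : (spBN m F hm).N) : ↥(SpH m F))⁻¹
        ∈ BG m F := by
  have e1 : (-(1 / (-1 : F))) = 1 := by rw [div_neg, neg_neg, div_one]
  rcases hns with ⟨k, k', hk, hk', e⟩ | ⟨k, hk, e⟩
  · have hkm : (k : ℕ) < m := by omega
    have hlt : k < k' := by rw [Fin.lt_def]; omega
    have hne : k ≠ k' := ne_of_lt hlt
    have hk'ne : k' ≠ k.rev := by
      intro e
      have := congrArg Fin.val e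
      rw [Fin.val_rev] at this
      omega
    have hk'ne' : k ≠ k'.rev := by
      intro e
      have := congrArg Fin.val e
      rw [Fin.val_rev] at this
      omega
    have hR := rank_one_short hk hk' hne (-1 : F) (neg_ne_zero.2 one_ne_zero)
    rw [e1] at hR
    have hXB : Xr k k' hne (-1 : F) ∈ BH m F := by
      refine mem_BH.2 ⟨?_, Xr_mem_SpH k k' hne hk'ne' _⟩
      have h1 : tv k k' hne (-1 : F) ∈ upperTriangularGL (2 * m) F := tv_mem_upper hlt _
      exact mul_mem h1 (sigma_mem_upper h1)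
    have hYH : Xr k' k hne.symm (1 : F) ∈ SpH m F := Xr_mem_SpH k' k hne.symm hk'ne 1
    refine ⟨⟨Xr k' k hne.symm (1 : F), hYH⟩, ?_, ?_⟩
    · rw [mem_D]
      refine ⟨⟨(Xr k k' hne (-1 : F))⁻¹, inv_mem (BH_le_SpH hXB)⟩, mem_BG'.2 (inv_mem hXB),
        ⟨_, BH_le_SpH hR⟩, mem_BG'.2 hR, ?_⟩
      apply Subtype.ext
      simp only [Subgroup.coe_mul, e]
      have hss := sS_mul_self (F := F) hkm hk'
      calc Xr k' k hne.symm (1 : F)
          = (Xr k k' hne (-1 : F))⁻¹ * (sS k k' * sS k k') * Xr k k' hne (-1) *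
            Xr k' k hne.symm 1 := by rw [hss]; group
        _ = _ := by group
    · rw [mem_BG]
      simp only [Subgroup.coe_mul, Subgroup.coe_inv, n0_coe, inv_inv]
      obtain ⟨c', h', hc'⟩ := Xr_conj_JG (F := F) k' k hne.symm 1
      rw [hc']
      have h1 : tv k'.rev k.rev h' c' ∈ upperTriangularGL (2 * m) F :=
        tv_mem_upper (Fin.rev_lt_rev.2 hlt) c'
      exact mul_mem h1 (sigma_mem_upper h1)
  · have hlt : k < k.rev := by rw [Fin.lt_def, Fin.val_rev]; omega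
    have hne : k ≠ k.rev := ne_of_lt hlt
    have hR := rank_one_long hk hne (-1 : F) (neg_ne_zero.2 one_ne_zero)
    rw [e1] at hR
    have hxB : tv k k.rev hne (-1 : F) ∈ BH m F :=
      mem_BH.2 ⟨tv_mem_upper hlt _, tv_rev_mem_SpH' k k.rev rfl hne _⟩
    have hyH : tv k.rev k hne.symm (1 : F) ∈ SpH m F :=
      tv_rev_mem_SpH' k.rev k (Fin.rev_rev k).symm hne.symm _
    refine ⟨⟨tv k.rev k hne.symm (1 : F), hyH⟩, ?_, ?_⟩
    · have hS : ns ∈ (spBN m F hm).S := Or.inr ⟨k, hk, e⟩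
      rw [← D_inv_S (spBN m F hm) hS, mem_D]
      refine ⟨⟨(tv k k.rev hne (-1 : F))⁻¹, inv_mem (BH_le_SpH hxB)⟩, mem_BG'.2 (inv_mem hxB),
        ⟨_, BH_le_SpH hR⟩, mem_BG'.2 hR, ?_⟩
      apply Subtype.ext
      simp only [Subgroup.coe_mul, Subgroup.coe_inv, e]
      group
    · rw [mem_BG]
      simp only [Subgroup.coe_mul, Subgroup.coe_inv, n0_coe, inv_inv]
      obtain ⟨c', h', hc'⟩ := tv_conj_JG' (F := F) k.rev k hne.symm 1
      rw [hc']
      exact tv_mem_upper (Fin.rev_lt_rev.2 hlt) c'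

/-- the class of the longest element has no ascent -/
theorem noAscent_n0 : NoAscent (spBN m F hm) (proj (spBN m F hm) (n0 hm)) := by
  intro σ hσ
  obtain ⟨ns, hns, rfl⟩ := hσ
  by_contra hlt
  rw [not_lt] at hlt
  have hx : ((n0 hm : (spBN m F hm).N) : ↥(SpH m F))
      ∈ C (spBN m F hm) (proj (spBN m F hm) (n0 hm)) := by
    rw [C_proj]; exact self_mem_D _ _
  obtain ⟨t, ht, ht'⟩ := lower_elt hm (ns : ↥(SpH m F)) hns
  have ht2 : t ∈ C (spBN m F hm) (proj (spBN m F hm) ns) := by rw [C_proj]; exact ht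
  have h1 := L2_right (spBN m F hm) ⟨ns, hns, rfl⟩ hlt hx ht2
  have h2 : ((n0 hm : (spBN m F hm).N) : ↥(SpH m F)) * t
      ∈ C (spBN m F hm) (proj (spBN m F hm) (n0 hm)) := by
    rw [C_proj]
    have : ((n0 hm : (spBN m F hm).N) : ↥(SpH m F)) * t
        = (((n0 hm : (spBN m F hm).N) : ↥(SpH m F)) * t *
          ((n0 hm : (spBN m F hm).N) : ↥(SpH m F))⁻¹) * (n0 hm : (spBN m F hm).N) := by group
    rw [this]
    exact B_mul_mem_D (spBN m F hm) ht' (self_mem_D _ _)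
  have h3 := bruhat (spBN m F hm) (C_inj_of_inter (spBN m F hm) h1 h2)
  have h4 : proj (spBN m F hm) ns = 1 := by
    have : proj (spBN m F hm) (n0 hm) * proj (spBN m F hm) ns
        = proj (spBN m F hm) (n0 hm) * 1 := by
      rw [mul_one]; exact h3
    exact mul_left_cancel this
  exact Sbar_ne_one (spBN m F hm) ⟨ns, hns, rfl⟩ h4

/-! ### the generators, indexed by natural numbers -/

theorem sG_mem_S {j : ℕ} (h : j < m) : sG m F j ∈ (spBN m F hm).S := sGL_mem_SH h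

theorem sG_mem_N (j : ℕ) : sG m F j ∈ (spBN m F hm).N := mem_NG.2 (sGL_mem_monoN j)

/-- the generators of the Weyl group -/
noncomputable def tauW (j : ℕ) : W (spBN m F hm) :=
  proj (spBN m F hm) ⟨sG m F j, sG_mem_N hm j⟩

/-- the standard parabolic subgroups -/
noncomputable def QJ (J : Finset ℕ) : Subgroup ↥(SpH m F) :=
  (spBN m F hm).parabolic (sG m F '' (J : Set ℕ))

theorem tauW_surj : ∀ σ ∈ Sbar (spBN m F hm), ∃ j < m, tauW hm j = σ := by
  rintro σ ⟨ns, hns, rfl⟩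
  have key : ∃ j < m, sGL m F j = ((ns : ↥(SpH m F)) : GL (Fin (2 * m)) F) := by
    rcases hns with ⟨k, k', hk, hk', e⟩ | ⟨k, hk, e⟩
    · refine ⟨(k : ℕ), by omega, ?_⟩
      unfold sGL
      rw [dif_pos (by omega), e]
      congr 1
      exact Fin.ext hk
    · refine ⟨(k : ℕ), by omega, ?_⟩
      unfold sGL
      rw [dif_neg (by omega), dif_pos hk, e]
  obtain ⟨j, hj, hjs⟩ := key
  refine ⟨j, hj, ?_⟩
  unfold tauW
  congr 1
  apply Subtype.ext
  apply Subtype.ext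
  exact hjs

theorem QJ_spec : ∀ J ⊆ Finset.range m, ∃ JG ⊆ (spBN m F hm).S,
    QJ hm J = (spBN m F hm).parabolic JG ∧ bar (spBN m F hm) JG = tauW hm '' (J : Set ℕ) := by
  intro J hJ
  refine ⟨sG m F '' (J : Set ℕ), ?_, rfl, ?_⟩
  · rintro _ ⟨j, hj, rfl⟩
    have := Finset.mem_range.1 (hJ hj)
    exact sG_mem_S hm this
  · ext σ
    constructor
    · rintro ⟨n, ⟨j, hj, hjm⟩, rfl⟩
      refine ⟨j, hj, ?_⟩
      unfold tauW
      congr 1
      exact Subtype.ext hjm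
    · rintro ⟨j, hj, rfl⟩
      exact ⟨⟨sG m F j, sG_mem_N hm j⟩, ⟨j, hj, rfl⟩, rfl⟩

/-! ### the torus -/

/-- `B ∩ n₀ B n₀⁻¹` -/
def diagK : Subgroup ↥(SpH m F) :=
  BG m F ⊓ (BG m F).comap
    (MulAut.conj (((n0 hm : (spBN m F hm).N) : ↥(SpH m F))⁻¹)).toMonoidHom

theorem mem_diagK' {g : ↥(SpH m F)} : g ∈ diagK hm ↔ g ∈ BG m F ∧
    ((n0 hm : (spBN m F hm).N) : ↥(SpH m F))⁻¹ * g * (n0 hm : (spBN m F hm).N) ∈ BG m F := by
  unfold diagK
  rw [Subgroup.mem_inf, Subgroup.mem_comap]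
  simp

theorem diagK_le : diagK hm ≤ BG m F := inf_le_left

theorem diagK_spec : ∀ β ∈ (spBN m F hm).B, β ∈ diagK hm ↔
    ((n0 hm : (spBN m F hm).N) : ↥(SpH m F))⁻¹ * β * (n0 hm : (spBN m F hm).N)
      ∈ (spBN m F hm).B := by
  intro β hβ
  rw [mem_diagK']
  exact ⟨fun h => h.2, fun h => ⟨hβ, h⟩⟩

/-! ### the alternating sum -/

/-- the alternating sum of the numbers of fixed points on the cosets of the parabolic subgroups -/
noncomputable def stZ (g : ↥(SpH m F)) : ℤ :=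
  ∑ J ∈ (Finset.range m).powerset,
    (-1 : ℤ) ^ J.card * (Nat.card (MulAction.fixedBy (↥(SpH m F) ⧸ QJ hm J) g) : ℤ)

theorem stZ_norm [Finite F] [Fintype ↥(SpH m F)] :
    ∑ g : ↥(SpH m F), (stZ hm g) ^ 2 = (Nat.card ↥(SpH m F) : ℤ) :=
  steinberg_norm (spBN m F hm) m (tauW hm) (tauW_surj hm) (QJ hm) (QJ_spec hm) _ (noAscent_n0 hm)

theorem stZ_borel [Finite F] (b : (spBN m F hm).B) :
    stZ hm (b : ↥(SpH m F)) = (Nat.card (MulAction.fixedBy
      (↥(spBN m F hm).B ⧸ (diagK hm).subgroupOf (spBN m F hm).B) b) : ℤ) := by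
  unfold stZ
  rw [alternating_sum_fixedBy (spBN m F hm) m (tauW hm) (tauW_surj hm) (QJ hm) (QJ_spec hm) _
    (noAscent_n0 hm) (b : ↥(SpH m F)) b.2, card_fixedBy_bigCell (spBN m F hm) (n0 hm) (diagK hm)
    (diagK_spec hm) b]

end Cfsg.Agent.Lib.Helper8.SpBN
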