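import Mathlib
import Cfsg.Agent.Lib.Helper8.SpBN.Steinberg

/-!
# Blocks of positions attached to a set of nodes of the diagram of type `C_m` (helper8)

For a set `K` of nodes, two adjacent positions `k`, `k + 1` of `Fin (2 * m)` lie in the same block
when the node joining them belongs to `K`.  `Lab m K i` is the number of the block of `i`.
-/

set_option autoImplicit false

namespace Cfsg.Agent.Lib.Helper8.SpBN

open Matrix Cfsg Cfsg.Agent.Lib.Helper5.GLBN
open scoped MatrixGroups

/-- the node of the diagram joining the positions `k` and `k + 1` -/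
def nodeOf (m k : ℕ) : ℕ := if k < m then k else 2 * m - 2 - k

/-- the number of the block of the position `i` -/
def Lab (m : ℕ) (K : Finset ℕ) (i : ℕ) : ℕ :=
  ((Finset.range i).filter (fun k => nodeOf m k ∉ K)).card

theorem Lab_mono (m : ℕ) (K : Finset ℕ) {i j : ℕ} (h : i ≤ j) : Lab m K i ≤ Lab m K j :=
  Finset.card_le_card (Finset.filter_subset_filter _ (Finset.range_mono h))

theorem Lab_succ (m : ℕ) (K : Finset ℕ) (k : ℕ) :
    Lab m K (k + 1) = Lab m K k + if nodeOf m k ∈ K then 0 else 1 := by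
  unfold Lab
  rw [Finset.range_add_one, Finset.filter_insert]
  by_cases h : nodeOf m k ∈ K
  · rw [if_neg (not_not.2 h), if_pos h, add_zero]
  · rw [if_pos h, if_neg h, Finset.card_insert_of_notMem]
    intro h'
    have := (Finset.mem_filter.1 h').1
    rw [Finset.mem_range] at this
    exact lt_irrefl _ this

theorem Lab_succ_of_mem {m : ℕ} {K : Finset ℕ} {k : ℕ} (h : nodeOf m k ∈ K) :
    Lab m K (k + 1) = Lab m K k := by
  rw [Lab_succ, if_pos h, add_zero]

theorem node_mem_of_Lab_eq {m : ℕ} {K : Finset ℕ} {a b k : ℕ} (hak : a ≤ k) (hkb : k < b)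
    (h : Lab m K a = Lab m K b) : nodeOf m k ∈ K := by
  by_contra hn
  have h1 := Lab_mono m K hak
  have h2 : Lab m K (k + 1) ≤ Lab m K b := Lab_mono m K hkb
  have h3 := Lab_succ m K k
  rw [if_neg hn] at h3
  omega

theorem nodeOf_symm {m k : ℕ} (hk : k + 2 ≤ 2 * m) : nodeOf m (2 * m - 2 - k) = nodeOf m k := by
  unfold nodeOf
  split_ifs <;> omega

variable {m : ℕ}

/-- the number of the block of a position -/
def LabF (m : ℕ) (K : Finset ℕ) (i : Fin (2 * m)) : ℕ := Lab m K (i : ℕ)

theorem LabF_mono (K : Finset ℕ) {i j : Fin (2 * m)} (h : i ≤ j) : LabF m K i ≤ LabF m K j :=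
  Lab_mono m K h

theorem LabF_adj {K : Finset ℕ} {k k' : Fin (2 * m)} (hk : (k : ℕ) + 1 = k')
    (h : nodeOf m k ∈ K) : LabF m K k' = LabF m K k := by
  unfold LabF
  rw [← hk]
  exact Lab_succ_of_mem h

theorem node_mem_of_LabF_eq {K : Finset ℕ} {a b : Fin (2 * m)} (hab : a < b)
    (h : LabF m K a = LabF m K b) : nodeOf m a ∈ K :=
  node_mem_of_Lab_eq le_rfl hab h

/-- the node of the mirror pair -/
theorem nodeOf_rev {k k' : Fin (2 * m)} (hk : (k : ℕ) + 1 = k') :
    nodeOf m ((k'.rev : Fin (2 * m)) : ℕ) = nodeOf m k := by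
  have h1 : ((k'.rev : Fin (2 * m)) : ℕ) = 2 * m - 2 - k := by
    rw [Fin.val_rev]; omega
  rw [h1]
  apply nodeOf_symm
  have := k'.2
  omega

/-- a permutation preserving the blocks -/
def PresL (K : Finset ℕ) (π : Equiv.Perm (Fin (2 * m))) : Prop := ∀ i, LabF m K (π i) = LabF m K i

theorem presL_one (K : Finset ℕ) : PresL K (1 : Equiv.Perm (Fin (2 * m))) := fun _ => rfl

theorem PresL.mul {K : Finset ℕ} {π τ : Equiv.Perm (Fin (2 * m))} (h : PresL K π)
    (h' : PresL K τ) : PresL K (π * τ) := by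
  intro i
  rw [Equiv.Perm.mul_apply, h, h']

theorem PresL.inv {K : Finset ℕ} {π : Equiv.Perm (Fin (2 * m))} (h : PresL K π) :
    PresL K π⁻¹ := by
  intro i
  have := h (π⁻¹ i)
  have e : π (π⁻¹ i) = i := by simp
  rw [e] at this
  exact this.symm

theorem presL_swap {K : Finset ℕ} {a b : Fin (2 * m)} (h : LabF m K a = LabF m K b) :
    PresL K (Equiv.swap a b) := by
  intro i
  by_cases h1 : i = a
  · subst h1; rw [Equiv.swap_apply_left, h]
  · by_cases h2 : i = b
    · subst h2; rw [Equiv.swap_apply_right, h]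
    · rw [Equiv.swap_apply_of_ne_of_ne h1 h2]

/-- the permutation of a short simple reflection preserves the blocks -/
theorem presL_short {K : Finset ℕ} {k k' : Fin (2 * m)} (hk : (k : ℕ) + 1 = k')
    (h : nodeOf m k ∈ K) : PresL K (Equiv.swap k k' * Equiv.swap k.rev k'.rev) := by
  apply PresL.mul
  · exact presL_swap (LabF_adj hk h).symm
  · have h1 : ((k'.rev : Fin (2 * m)) : ℕ) + 1 = (k.rev : Fin (2 * m)) := by
      rw [Fin.val_rev, Fin.val_rev]; have := k'.2; omega
    have h2 : nodeOf m ((k'.rev : Fin (2 * m)) : ℕ) ∈ K := by rw [nodeOf_rev hk]; exact h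
    exact presL_swap (LabF_adj h1 h2)

/-- the permutation of the long simple reflection preserves the blocks -/
theorem presL_long {K : Finset ℕ} {k : Fin (2 * m)} (hk : (k : ℕ) + 1 = m)
    (h : nodeOf m k ∈ K) : PresL K (Equiv.swap k k.rev) := by
  have h1 : (k : ℕ) + 1 = (k.rev : Fin (2 * m)) := by rw [Fin.val_rev]; omega
  exact presL_swap (LabF_adj h1 h).symm

/-! ### block triangular matrices -/

variable {F : Type*} [Field F] {n : ℕ}

/-- block upper triangular -/
def BlkU (L : Fin n → ℕ) (M : Matrix (Fin n) (Fin n) F) : Prop := ∀ i j, L j < L i → M i j = 0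

/-- strictly block upper triangular -/
def BlkS (L : Fin n → ℕ) (M : Matrix (Fin n) (Fin n) F) : Prop := ∀ i j, L j ≤ L i → M i j = 0

theorem BlkU.mul {L : Fin n → ℕ} {M M' : Matrix (Fin n) (Fin n) F} (h : BlkU L M)
    (h' : BlkU L M') : BlkU L (M * M') := by
  intro i j hij
  rw [Matrix.mul_apply]
  apply Finset.sum_eq_zero
  intro a _
  by_cases h1 : L a < L i
  · rw [h i a h1, zero_mul]
  · rw [h' a j (by omega), mul_zero]

theorem BlkU.mul_blkS {L : Fin n → ℕ} {M M' : Matrix (Fin n) (Fin n) F} (h : BlkU L M)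
    (h' : BlkS L M') : BlkS L (M * M') := by
  intro i j hij
  rw [Matrix.mul_apply]
  apply Finset.sum_eq_zero
  intro a _
  by_cases h1 : L a < L i
  · rw [h i a h1, zero_mul]
  · rw [h' a j (by omega), mul_zero]

theorem BlkS.mul_blkU {L : Fin n → ℕ} {M M' : Matrix (Fin n) (Fin n) F} (h : BlkS L M)
    (h' : BlkU L M') : BlkS L (M * M') := by
  intro i j hij
  rw [Matrix.mul_apply]
  apply Finset.sum_eq_zero
  intro a _
  by_cases h1 : L a ≤ L i
  · rw [h i a h1, zero_mul]
  · rw [h' a j (by omega), mul_zero]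

theorem blkU_of_upper {L : Fin n → ℕ} (hL : Monotone L) {g : GL (Fin n) F}
    (hg : g ∈ upperTriangularGL n F) : BlkU L (g : Matrix (Fin n) (Fin n) F) := by
  intro i j hij
  apply (mem_upper.1 hg)
  by_contra hlt
  rw [not_lt] at hlt
  have := hL hlt
  omega

theorem blkU_of_mono {L : Fin n → ℕ} {M : Matrix (Fin n) (Fin n) F} {π : Equiv.Perm (Fin n)}
    (hπ : IsMono M π) (hL : ∀ i, L (π i) = L i) : BlkU L M := by
  intro i j hij
  apply hπ
  intro e
  rw [e, hL] at hij
  exact lt_irrefl _ hij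

/-- conjugating by the inverse of a monomial matrix -/
theorem mono_conj_apply {ν : GL (Fin n) F} {π : Equiv.Perm (Fin n)}
    (hν : IsMono (ν : Matrix (Fin n) (Fin n) F) π) (g : GL (Fin n) F) (i j : Fin n) :
    ((ν⁻¹ * g * ν : GL (Fin n) F) : Matrix (Fin n) (Fin n) F) i j
      = ((ν⁻¹ : GL (Fin n) F) : Matrix (Fin n) (Fin n) F) i (π i)
        * (g : Matrix (Fin n) (Fin n) F) (π i) (π j)
        * (ν : Matrix (Fin n) (Fin n) F) (π j) j := by
  rw [mul_assoc, Units.val_mul, hν.inv.apply_mul, inv_inv, Units.val_mul, hν.mul_apply, mul_assoc]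

theorem mono_inv_apply_ne_zero {ν : GL (Fin n) F} {π : Equiv.Perm (Fin n)}
    (hν : IsMono (ν : Matrix (Fin n) (Fin n) F) π) (i : Fin n) :
    ((ν⁻¹ : GL (Fin n) F) : Matrix (Fin n) (Fin n) F) i (π i) ≠ 0 := by
  have := hν.inv.apply_ne_zero (π i)
  simpa using this

/-- the conjugate of `g` by the inverse of a monomial matrix is upper triangular iff the entries
of `g` at the images of the positions below the diagonal vanish -/
theorem mono_conj_mem_upper_iff {ν : GL (Fin n) F} {π : Equiv.Perm (Fin n)}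
    (hν : IsMono (ν : Matrix (Fin n) (Fin n) F) π) (g : GL (Fin n) F) :
    ν⁻¹ * g * ν ∈ upperTriangularGL n F ↔
      ∀ i j, j < i → (g : Matrix (Fin n) (Fin n) F) (π i) (π j) = 0 := by
  rw [mem_upper]
  constructor
  · intro h i j hji
    have := h i j hji
    rw [mono_conj_apply hν] at this
    rcases mul_eq_zero.1 this with h1 | h1
    · rcases mul_eq_zero.1 h1 with h2 | h2
      · exact absurd h2 (mono_inv_apply_ne_zero hν i)
      · exact h2
    · exact absurd h1 (hν.apply_ne_zero j)
  · intro h i j hji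
    rw [mono_conj_apply hν, h i j hji, mul_zero, zero_mul]

end Cfsg.Agent.Lib.Helper8.SpBN
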