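import Mathlib
import Cfsg.Agent.Lib.Helper8.SpBN.Blk

/-!
# The longest elements of the parabolic subgroups of the Weyl group of type `C_m` (helper8)

For every set `K` of nodes there is a product of the simple reflections of `K` whose permutation
preserves the blocks of `K` and reverses the order inside every block.
-/

set_option autoImplicit false

namespace Cfsg.Agent.Lib.Helper8.SpBN

open Matrix Cfsg Cfsg.Agent.Lib.Helper5.GLBN
open scoped MatrixGroups

variable {m : ℕ} {F : Type*} [Field F]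

theorem sG_coe (j : ℕ) : ((sG m F j : ↥(SpH m F)) : GL (Fin (2 * m)) F) = sGL m F j := rfl

theorem sGL_short {k k' : Fin (2 * m)} (hk : (k : ℕ) + 1 = k') (hk' : (k' : ℕ) < m) :
    sGL m F (k : ℕ) = sS k k' := by
  unfold sGL
  rw [dif_pos (by omega)]
  congr 1
  exact Fin.ext hk

theorem sGL_long {k : Fin (2 * m)} (hk : (k : ℕ) + 1 = m) : sGL m F (k : ℕ) = sL k := by
  unfold sGL
  rw [dif_neg (by omega), dif_pos hk]

theorem nodeOf_of_lt {k : ℕ} (h : k < m) : nodeOf m k = k := by
  unfold nodeOf; rw [if_pos h]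

/-- the products of the simple reflections of `K` are monomial, with permutations preserving the
blocks of `K` -/
theorem closure_mono (K : Finset ℕ) {n : ↥(SpH m F)}
    (hn : n ∈ Subgroup.closure (sG m F '' (K : Set ℕ))) :
    ∃ π : Equiv.Perm (Fin (2 * m)),
      IsMono (((n : ↥(SpH m F)) : GL (Fin (2 * m)) F) : Matrix (Fin (2 * m)) (Fin (2 * m)) F) π ∧
      PresL K π := by
  induction hn using Subgroup.closure_induction with
  | mem x hx =>
    obtain ⟨j, hj, rfl⟩ := hx
    rw [sG_coe]
    unfold sGL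
    by_cases h1 : j + 1 < m
    · rw [dif_pos h1]
      refine ⟨_, isMono_sS _ _, presL_short rfl ?_⟩
      show nodeOf m j ∈ K
      rw [nodeOf_of_lt (by omega)]
      exact hj
    · by_cases h2 : j + 1 = m
      · rw [dif_neg h1, dif_pos h2]
        refine ⟨_, isMono_sL _, presL_long h2 ?_⟩
        show nodeOf m j ∈ K
        rw [nodeOf_of_lt (by omega)]
        exact hj
      · rw [dif_neg h1, dif_neg h2]
        exact ⟨1, isMono_one, presL_one K⟩
  | one => exact ⟨1, isMono_one, presL_one K⟩
  | mul x y _ _ hx hy =>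
    obtain ⟨π, h1, h2⟩ := hx
    obtain ⟨τ, h3, h4⟩ := hy
    refine ⟨π * τ, ?_, h2.mul h4⟩
    rw [Subgroup.coe_mul, Units.val_mul]
    exact h1.mul h3
  | inv x _ hx =>
    obtain ⟨π, h1, h2⟩ := hx
    refine ⟨π⁻¹, ?_, h2.inv⟩
    rw [Subgroup.coe_inv]
    exact h1.inv

/-- **The longest element of the parabolic subgroup `W_K`.** -/
theorem exists_longest (K : Finset ℕ) :
    ∃ n ∈ Subgroup.closure (sG m F '' (K : Set ℕ)), ∃ π : Equiv.Perm (Fin (2 * m)),
      IsMono (((n : ↥(SpH m F)) : GL (Fin (2 * m)) F) : Matrix (Fin (2 * m)) (Fin (2 * m)) F) π ∧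
      PresL K π ∧
      ∀ a b : Fin (2 * m), a < b → LabF m K a = LabF m K b → π b < π a := by
  classical
  let S : Set (Equiv.Perm (Fin (2 * m))) := {π | ∃ n ∈ Subgroup.closure (sG m F '' (K : Set ℕ)),
    IsMono (((n : ↥(SpH m F)) : GL (Fin (2 * m)) F) : Matrix (Fin (2 * m)) (Fin (2 * m)) F) π}
  have hne : Nonempty S := ⟨⟨1, 1, one_mem _, isMono_one⟩⟩
  obtain ⟨⟨π, n, hn, hπ⟩, hmin⟩ :=
    Finite.exists_min (fun π : S => Mz (π : Equiv.Perm (Fin (2 * m))))
  have hmin' : ∀ n' ∈ Subgroup.closure (sG m F '' (K : Set ℕ)),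
      ∀ π' : Equiv.Perm (Fin (2 * m)),
      IsMono (((n' : ↥(SpH m F)) : GL (Fin (2 * m)) F) : Matrix (Fin (2 * m)) (Fin (2 * m)) F) π' →
      Mz π ≤ Mz π' := fun n' hn' π' hπ' => hmin ⟨π', n', hn', hπ'⟩
  have hrev : ∀ b, π b.rev = (π b).rev := fun b => perm_rev_comm n.2 hπ b
  obtain ⟨π', hπ', hP⟩ := closure_mono K hn
  have e : π' = π := hπ'.unique hπ
  subst e
  -- the adjacent pairs of the first half
  have short : ∀ k k' : Fin (2 * m), (k : ℕ) + 1 = k' → (k' : ℕ) < m → nodeOf m k ∈ K →
      π' k' < π' k := by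
    intro k k' hk hk' hK
    by_contra hcon
    have hkm : (k : ℕ) < m := by omega
    have hlt : k < k' := by rw [Fin.lt_def]; omega
    have hne : k ≠ k' := ne_of_lt hlt
    have hlt' : π' k < π' k' :=
      lt_of_le_of_ne (not_lt.1 hcon) (fun e => hne (π'.injective e))
    have hk'ne : k' ≠ k.rev := by
      intro e
      have := congrArg Fin.val e
      rw [Fin.val_rev] at this
      omega
    have hkne : k ≠ k.rev := (rev_ne_self k).symm
    have hkne' : k ≠ k'.rev := by
      intro e
      have := congrArg Fin.val e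
      rw [Fin.val_rev] at this
      omega
    have hk'ne' : k' ≠ k'.rev := (rev_ne_self k').symm
    have hmem : n * sG m F (k : ℕ) ∈ Subgroup.closure (sG m F '' (K : Set ℕ)) := by
      apply mul_mem hn (Subgroup.subset_closure ⟨(k : ℕ), ?_, rfl⟩)
      rw [nodeOf_of_lt hkm] at hK
      exact hK
    have hmono : IsMono ((((n * sG m F (k : ℕ) : ↥(SpH m F)) : GL (Fin (2 * m)) F))
        : Matrix (Fin (2 * m)) (Fin (2 * m)) F)
        (π' * (Equiv.swap k k' * Equiv.swap k.rev k'.rev)) := by
      rw [Subgroup.coe_mul, sG_coe, sGL_short hk hk', Units.val_mul]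
      exact hπ.mul (isMono_sS k k')
    have h0 := hmin' _ hmem _ hmono
    have h2 : Mz (π' * Equiv.swap k k') < Mz π' := by
      have := Mz_lt (π' * Equiv.swap k k') hlt (by
        rw [Equiv.Perm.mul_apply, Equiv.Perm.mul_apply, Equiv.swap_apply_right,
          Equiv.swap_apply_left]
        exact hlt')
      rwa [mul_assoc, Equiv.swap_mul_self, mul_one] at this
    have h1 : Mz (π' * Equiv.swap k k' * Equiv.swap k.rev k'.rev) < Mz (π' * Equiv.swap k k') := by
      have := Mz_lt (π' * Equiv.swap k k' * Equiv.swap k.rev k'.rev) (Fin.rev_lt_rev.2 hlt) (by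
        rw [Equiv.Perm.mul_apply, Equiv.Perm.mul_apply, Equiv.Perm.mul_apply, Equiv.Perm.mul_apply,
          Equiv.swap_apply_left, Equiv.swap_apply_right,
          Equiv.swap_apply_of_ne_of_ne hkne'.symm hk'ne'.symm,
          Equiv.swap_apply_of_ne_of_ne hkne.symm hk'ne.symm, hrev, hrev]
        exact Fin.rev_lt_rev.2 hlt')
      rwa [mul_assoc _ (Equiv.swap k.rev k'.rev), Equiv.swap_comm k'.rev k.rev,
        Equiv.swap_mul_self, mul_one] at this
    rw [← mul_assoc] at h0
    have := lt_trans h1 h2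
    exact absurd h0 (not_le.2 this)
  -- the middle pair
  have long : ∀ k : Fin (2 * m), (k : ℕ) + 1 = m → nodeOf m k ∈ K → π' k.rev < π' k := by
    intro k hk hK
    by_contra hcon
    have hkm : (k : ℕ) < m := by omega
    have hlt : k < k.rev := by rw [Fin.lt_def, Fin.val_rev]; omega
    have hlt' : π' k < π' k.rev :=
      lt_of_le_of_ne (not_lt.1 hcon) (fun e => (ne_of_lt hlt) (π'.injective e))
    have hmem : n * sG m F (k : ℕ) ∈ Subgroup.closure (sG m F '' (K : Set ℕ)) := by
      apply mul_mem hn (Subgroup.subset_closure ⟨(k : ℕ), ?_, rfl⟩)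
      rw [nodeOf_of_lt hkm] at hK
      exact hK
    have hmono : IsMono ((((n * sG m F (k : ℕ) : ↥(SpH m F)) : GL (Fin (2 * m)) F))
        : Matrix (Fin (2 * m)) (Fin (2 * m)) F) (π' * Equiv.swap k k.rev) := by
      rw [Subgroup.coe_mul, sG_coe, sGL_long hk, Units.val_mul]
      exact hπ.mul (isMono_sL k)
    have h0 := hmin' _ hmem _ hmono
    have h2 : Mz (π' * Equiv.swap k k.rev) < Mz π' := by
      have := Mz_lt (π' * Equiv.swap k k.rev) hlt (by
        rw [Equiv.Perm.mul_apply, Equiv.Perm.mul_apply, Equiv.swap_apply_right,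
          Equiv.swap_apply_left]
        exact hlt')
      rwa [mul_assoc, Equiv.swap_mul_self, mul_one] at this
    exact absurd h0 (not_le.2 h2)
  -- all the adjacent pairs
  have adj : ∀ k k' : Fin (2 * m), (k : ℕ) + 1 = k' → nodeOf m k ∈ K → π' k' < π' k := by
    intro k k' hk hK
    by_cases hc1 : (k' : ℕ) < m
    · exact short k k' hk hc1 hK
    · by_cases hc2 : (k : ℕ) + 1 = m
      · have hk' : k' = k.rev := by
          apply Fin.ext
          rw [Fin.val_rev]
          omega
        rw [hk']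
        exact long k hc2 hK
      · have hkm : m ≤ (k : ℕ) := by omega
        have hj' : ((k.rev : Fin (2 * m)) : ℕ) < m := by
          rw [Fin.val_rev]; have := k.2; omega
        have h1 := short k'.rev k.rev (rev_adj hk) hj' (by rw [nodeOf_rev hk]; exact hK)
        rw [hrev, hrev] at h1
        exact Fin.rev_lt_rev.1 h1
  refine ⟨n, hn, π', hπ, hP, ?_⟩
  have key : ∀ d : ℕ, ∀ a b : Fin (2 * m), (a : ℕ) + d + 1 = b → LabF m K a = LabF m K b →
      π' b < π' a := by
    intro d
    induction d with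
    | zero =>
      intro a b hab hL
      have hlt : a < b := by rw [Fin.lt_def]; omega
      exact adj a b (by omega) (node_mem_of_LabF_eq hlt hL)
    | succ d ih =>
      intro a b hab hL
      have hlt : a < b := by rw [Fin.lt_def]; omega
      have ha' : (a : ℕ) + 1 < 2 * m := by have := b.2; omega
      have hnode := node_mem_of_LabF_eq hlt hL
      have h1 : LabF m K ⟨(a : ℕ) + 1, ha'⟩ = LabF m K a := LabF_adj rfl hnode
      have h2 := ih ⟨(a : ℕ) + 1, ha'⟩ b (by simp only; omega) (by rw [h1, hL])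
      have h3 := adj a ⟨(a : ℕ) + 1, ha'⟩ rfl hnode
      exact lt_trans h2 h3
  intro a b hab hL
  rw [Fin.lt_def] at hab
  exact key ((b : ℕ) - (a : ℕ) - 1) a b (by omega) hL

end Cfsg.Agent.Lib.Helper8.SpBN
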