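import Mathlib
import Cfsg.Agent.Lib.Helper8.SpBN.Steinberg
import Cfsg.Agent.Lib.helper3.TwoTrans
import Cfsg.Agent.Lib.helper3.GenChar
import Cfsg.Agent.Lib.helper3.NormOne

/-!
# The Steinberg character of the symplectic group (helper8)
-/

set_option autoImplicit false

namespace Cfsg.Agent.Lib.Helper8.SpBN

open Matrix Cfsg Cfsg.Agent.Lib.Helper5.GLBN Cfsg.Agent.Lib.Helper5.BN Cfsg.Agent.Lib.helper3
open scoped MatrixGroups ComplexConjugate

/-- the cosets of `B ∩ n₀ B n₀⁻¹` in `B` -/
abbrev BmodK (m : ℕ) (F : Type*) [Field F] (hm : 0 < m) : Type _ :=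
  ↥(BG m F) ⧸ (diagK hm).subgroupOf (BG m F)

variable {m : ℕ} {F : Type*} [Field F] (hm : 0 < m)

/-- the Steinberg character of the symplectic group -/
noncomputable def stSp (g : ↥(SpH m F)) : ℂ := (stZ hm g : ℂ)

theorem stSp_apply_of_mem [Finite F] {b : ↥(SpH m F)} (hb : b ∈ BG m F) :
    stSp hm b = (Nat.card (MulAction.fixedBy (BmodK m F hm) (⟨b, hb⟩ : ↥(BG m F))) : ℂ) := by
  unfold stSp
  have := stZ_borel hm (⟨b, hb⟩ : (spBN m F hm).B)
  rw [this]
  norm_cast

theorem stSp_one [Finite F] : stSp hm (1 : ↥(SpH m F)) = (Nat.card (BmodK m F hm) : ℂ) := by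
  rw [stSp_apply_of_mem hm (one_mem _)]
  have : (⟨1, one_mem _⟩ : ↥(BG m F)) = 1 := rfl
  rw [this, MulAction.fixedBy_one_eq_univ, Nat.card_congr (Equiv.Set.univ _)]

theorem isIrrCharacter_stSp [Finite F] : IsIrrCharacter ↥(SpH m F) (stSp hm) := by
  classical
  have : Finite ↥(SpH m F) := inferInstance
  let _ : Fintype ↥(SpH m F) := Fintype.ofFinite _
  have hnorm := stZ_norm (F := F) hm
  have hgen : IsGeneralizedCharacter ↥(SpH m F) (stSp hm) := by
    have : stSp hm = ∑ J ∈ (Finset.range m).powerset,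
        ((((-1 : ℤ) ^ J.card : ℤ)) : ℂ) • (fun g : ↥(SpH m F) =>
          (Nat.card (MulAction.fixedBy (↥(SpH m F) ⧸ QJ hm J) g) : ℂ)) := by
      funext g
      rw [Finset.sum_apply]
      unfold stSp stZ
      push_cast
      apply Finset.sum_congr rfl
      intro J _
      simp
    rw [this]
    apply GenChar.sum
    intro J _
    apply GenChar.smul_intCast
    apply GenChar.of_isCharacter
    exact PermChar.isCharacter_permChar _
  have hinner : classInner (stSp (F := F) hm) (stSp (F := F) hm) = 1 := by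
    unfold classInner
    have hs : ∑ g : ↥(SpH m F), stSp hm g * conj (stSp hm g)
        = (Nat.card ↥(SpH m F) : ℂ) := by
      have h2 := congrArg (fun z : ℤ => (z : ℂ)) hnorm
      simp only [Int.cast_sum, Int.cast_natCast] at h2
      rw [← h2]
      apply Finset.sum_congr rfl
      intro g _
      unfold stSp
      rw [map_intCast, sq, Int.cast_mul]
    rw [hs]
    exact inv_mul_cancel₀ (Nat.cast_ne_zero.2 Nat.card_pos.ne')
  obtain ⟨a, ha | ha⟩ := Irr.exists_irr_of_norm_one hgen hinner
  · rw [ha]; exact a.2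
  · exfalso
    obtain ⟨d, ρ, -, hρ⟩ := a.2
    have h1 : (a : ↥(SpH m F) → ℂ) 1 = (d : ℂ) := by
      rw [← hρ, Representation.char_one]
      simp
    have h2 := stSp_one (F := F) hm
    rw [ha, Pi.neg_apply, h1] at h2
    have h3 : ((d + Nat.card (BmodK m F hm) : ℕ) : ℂ) = 0 := by
      push_cast
      rw [← h2]
      ring
    have h4 := Nat.cast_eq_zero.1 h3
    have h5 : 0 < Nat.card (BmodK m F hm) := Nat.card_pos
    omega

/-! ### central elements -/

theorem fixedBy_mul_central' {G : Type*} [Group G] (H : Subgroup G) (x c : G)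
    (hc : c ∈ Subgroup.center G) (hcH : c ∈ H) :
    MulAction.fixedBy (G ⧸ H) (x * c) = MulAction.fixedBy (G ⧸ H) x := by
  ext y
  induction y using QuotientGroup.induction_on with
  | H y =>
    rw [MulAction.mem_fixedBy, MulAction.mem_fixedBy, MulAction.Quotient.smul_mk,
      MulAction.Quotient.smul_mk]
    have e : ((x * c) • y : G) = (x • y) * c := by
      simp only [smul_eq_mul]
      rw [mul_assoc, mul_assoc, (Subgroup.mem_center_iff.1 hc y).symm]
    have e2 : (((x • y) * c : G) : G ⧸ H) = ((x • y : G) : G ⧸ H) := by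
      rw [QuotientGroup.eq]
      have : (x • y * c)⁻¹ * (x • y) = c⁻¹ := by group
      rw [this]
      exact inv_mem hcH
    rw [e, e2]

theorem stSp_mul_central (x c : ↥(SpH m F)) (hc : c ∈ Subgroup.center ↥(SpH m F))
    (hcB : c ∈ BG m F) : stSp hm (x * c) = stSp hm x := by
  unfold stSp stZ
  congr 1
  apply Finset.sum_congr rfl
  intro J _
  rw [fixedBy_mul_central' (QJ hm J) x c hc (B_le_parabolic (spBN m F hm) _ hcB)]

end Cfsg.Agent.Lib.Helper8.SpBN
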