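import Mathlib
import Cfsg.Agent.Lib.Helper8.SpBN.StChar
import Cfsg.Agent.H9.SpB

/-!
# The index of the torus in the Borel subgroup of the symplectic group (helper8)

`B ∩ n₀ B n₀⁻¹` is the group of the diagonal symplectic matrices, and the unitriangular group of
`Cfsg.Agent.H9.SpB` is a set of representatives of its cosets in `B`.
-/

set_option autoImplicit false

namespace Cfsg.Agent.Lib.Helper8.SpBN

open Matrix Cfsg Cfsg.Agent.Lib.Helper5.GLBN Cfsg.Agent.Lib.Helper5.BN
open Cfsg.Agent.H9.SpA Cfsg.Agent.H9.SpB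
open scoped MatrixGroups

variable {m : ℕ} {F : Type*} [Field F]

/-! ### generalities on upper triangular matrices -/

theorem upper_inv_diag {n : ℕ} {b : GL (Fin n) F} (hb : b ∈ upperTriangularGL n F) (i : Fin n) :
    ((b⁻¹ : GL (Fin n) F) : Matrix (Fin n) (Fin n) F) i i
      * (b : Matrix (Fin n) (Fin n) F) i i = 1 := by
  have h1 : ((b⁻¹ * b : GL (Fin n) F) : Matrix (Fin n) (Fin n) F) i i = 1 := by
    rw [inv_mul_cancel]; simp
  rw [Units.val_mul, Matrix.mul_apply, Finset.sum_eq_single i] at h1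
  · exact h1
  · intro k _ hk
    rcases lt_or_gt_of_ne hk with h | h
    · rw [(mem_upper.1 (inv_mem hb)) i k h, zero_mul]
    · rw [(mem_upper.1 hb) k i h, mul_zero]
  · intro h; exact absurd (Finset.mem_univ i) h

/-- the diagonal part of an upper triangular matrix -/
noncomputable def dgOf {n : ℕ} (b : GL (Fin n) F) (hb : b ∈ upperTriangularGL n F) :
    GL (Fin n) F :=
  ⟨Matrix.diagonal fun i => (b : Matrix (Fin n) (Fin n) F) i i,
    Matrix.diagonal fun i => ((b : Matrix (Fin n) (Fin n) F) i i)⁻¹, by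
      rw [Matrix.diagonal_mul_diagonal]
      have : (fun i => (b : Matrix (Fin n) (Fin n) F) i i
          * ((b : Matrix (Fin n) (Fin n) F) i i)⁻¹) = fun _ => 1 := by
        funext i; exact mul_inv_cancel₀ (upper_diag_ne_zero hb i)
      rw [this, Matrix.diagonal_one], by
      rw [Matrix.diagonal_mul_diagonal]
      have : (fun i => ((b : Matrix (Fin n) (Fin n) F) i i)⁻¹
          * (b : Matrix (Fin n) (Fin n) F) i i) = fun _ => 1 := by
        funext i; exact inv_mul_cancel₀ (upper_diag_ne_zero hb i)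
      rw [this, Matrix.diagonal_one]⟩

theorem dgOf_coe {n : ℕ} (b : GL (Fin n) F) (hb : b ∈ upperTriangularGL n F) :
    ((dgOf b hb : GL (Fin n) F) : Matrix (Fin n) (Fin n) F)
      = Matrix.diagonal fun i => (b : Matrix (Fin n) (Fin n) F) i i := rfl

theorem dgOf_inv_coe {n : ℕ} (b : GL (Fin n) F) (hb : b ∈ upperTriangularGL n F) :
    (((dgOf b hb)⁻¹ : GL (Fin n) F) : Matrix (Fin n) (Fin n) F)
      = Matrix.diagonal fun i => ((b : Matrix (Fin n) (Fin n) F) i i)⁻¹ := rfl

theorem isMono_diagonal {n : ℕ} (d : Fin n → F) :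
    IsMono (Matrix.diagonal d : Matrix (Fin n) (Fin n) F) 1 := by
  intro i j hij
  rw [Matrix.diagonal_apply_ne]
  simpa using hij

theorem isMono_dgOf {n : ℕ} (b : GL (Fin n) F) (hb : b ∈ upperTriangularGL n F) :
    IsMono ((dgOf b hb : GL (Fin n) F) : Matrix (Fin n) (Fin n) F) 1 := by
  rw [dgOf_coe]; exact isMono_diagonal _

/-- `b * (diagonal of b)⁻¹` -/
theorem mul_dgOf_inv_apply {n : ℕ} (b : GL (Fin n) F) (hb : b ∈ upperTriangularGL n F)
    (i j : Fin n) :
    ((b * (dgOf b hb)⁻¹ : GL (Fin n) F) : Matrix (Fin n) (Fin n) F) i j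
      = (b : Matrix (Fin n) (Fin n) F) i j * ((b : Matrix (Fin n) (Fin n) F) j j)⁻¹ := by
  rw [Units.val_mul, dgOf_inv_coe, Matrix.mul_diagonal]

/-! ### the diagonal of a symplectic upper triangular matrix -/

theorem BH_diag {b : GL (Fin (2 * m)) F} (hb : b ∈ BH m F) (i : Fin (2 * m)) :
    (b : Matrix (Fin (2 * m)) (Fin (2 * m)) F) i i
      * (b : Matrix (Fin (2 * m)) (Fin (2 * m)) F) i.rev i.rev = 1 := by
  have hu := (mem_BH.1 hb).1
  have hs := (mem_BH.1 hb).2
  have h1 : (b : Matrix (Fin (2 * m)) (Fin (2 * m)) F) i i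
      = ((b⁻¹ : GL (Fin (2 * m)) F) : Matrix (Fin (2 * m)) (Fin (2 * m)) F) i.rev i.rev := by
    have h2 := sigma_apply b i i
    rw [mem_SpH.1 hs, eps_mul_self, one_mul] at h2
    exact h2
  rw [h1]
  exact upper_inv_diag hu i.rev

theorem dgOf_mem_SpH {b : GL (Fin (2 * m)) F} (hb : b ∈ BH m F) :
    dgOf b (mem_BH.1 hb).1 ∈ SpH m F := by
  apply mem_SpH_of_mono (isMono_dgOf b (mem_BH.1 hb).1) (fun _ => rfl)
  intro i
  rw [Equiv.Perm.one_apply, dgOf_coe, Matrix.diagonal_apply_eq, Matrix.diagonal_apply_eq,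
    BH_diag hb, eps_mul_self]

/-! ### the torus -/

theorem JG_conj_of_mem {g : GL (Fin (2 * m)) F} (hg : g ∈ SpH m F) :
    JG m F * g * (JG m F)⁻¹ = invT g := by
  have h : (JG m F)⁻¹ * invT g * JG m F = g := by
    rw [← sigma_def]; exact mem_SpH.1 hg
  calc JG m F * g * (JG m F)⁻¹
      = JG m F * ((JG m F)⁻¹ * invT g * JG m F) * (JG m F)⁻¹ := by rw [h]
    _ = invT g := by group

theorem mem_diagK_iff (hm : 0 < m) {g : ↥(SpH m F)} :
    g ∈ diagK hm ↔
      IsMono (((g : GL (Fin (2 * m)) F)) : Matrix (Fin (2 * m)) (Fin (2 * m)) F) 1 := by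
  have hconj : ((((n0 hm : (spBN m F hm).N) : ↥(SpH m F))⁻¹ * g * (n0 hm : (spBN m F hm).N)
      : ↥(SpH m F)) : GL (Fin (2 * m)) F) = invT (g : GL (Fin (2 * m)) F) := by
    rw [Subgroup.coe_mul, Subgroup.coe_mul, Subgroup.coe_inv, n0_coe, inv_inv]
    exact JG_conj_of_mem g.2
  rw [mem_diagK', mem_BG, mem_BG, hconj]
  constructor
  · rintro ⟨h1, h2⟩
    have h3 : IsMono (((g : GL (Fin (2 * m)) F)⁻¹ : GL (Fin (2 * m)) F)
        : Matrix (Fin (2 * m)) (Fin (2 * m)) F) 1 := by
      intro i j hij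
      have hij' : i ≠ j := by simpa using hij
      rcases lt_or_gt_of_ne hij' with h | h
      · have := (mem_upper.1 h2) j i h
        rw [invT_coe, Matrix.transpose_apply] at this
        exact this
      · exact (mem_upper.1 (inv_mem h1)) i j h
    have h4 := h3.inv
    rw [inv_inv, inv_one] at h4
    exact h4
  · intro h
    refine ⟨mem_upper_of_isMono_one h, ?_⟩
    rw [mem_upper]
    intro i j hij
    rw [invT_coe, Matrix.transpose_apply]
    have h3 := h.inv
    rw [inv_one] at h3
    apply h3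
    simpa using (ne_of_lt hij)

/-! ### the unitriangular group -/

theorem gA_apply (v : SpG m F) (i j : Fin m) :
    gA v i j = (v : Matrix (Fin m ⊕ Fin m) (Fin m ⊕ Fin m) F) (Sum.inl i) (Sum.inl j) := rfl

theorem gC_apply (v : SpG m F) (i j : Fin m) :
    gC v i j = (v : Matrix (Fin m ⊕ Fin m) (Fin m ⊕ Fin m) F) (Sum.inr i) (Sum.inl j) := rfl

theorem gD_apply (v : SpG m F) (i j : Fin m) :
    gD v i j = (v : Matrix (Fin m ⊕ Fin m) (Fin m ⊕ Fin m) F) (Sum.inr i) (Sum.inr j) := rfl

theorem toGLH_apply (v : SpG m F) (a b : Fin m ⊕ Fin m) :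
    ((toGLH m F v : GL (Fin (2 * m)) F) : Matrix (Fin (2 * m)) (Fin (2 * m)) F)
      (idxEquiv m a) (idxEquiv m b)
      = (v : Matrix (Fin m ⊕ Fin m) (Fin m ⊕ Fin m) F) a b := by
  rw [toGLH_coe, Rx_apply]

/-- the unitriangular group of `Cfsg.Agent.H9.SpB` consists of the symplectic matrices which
are upper unitriangular after reindexing -/
theorem mem_US_iff [Finite F] (v : SpG m F) :
    v ∈ (US : Subgroup (SpG m F)) ↔
      (toGLH m F v ∈ upperTriangularGL (2 * m) F ∧
        ∀ i, ((toGLH m F v : GL (Fin (2 * m)) F)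
          : Matrix (Fin (2 * m)) (Fin (2 * m)) F) i i = 1) := by
  constructor
  · intro hv
    obtain ⟨hC, hA⟩ := mem_US.1 hv
    have hD : IsUT ((gD v)ᵀ) := by
      have := (mem_US.1 (inv_mem hv)).2
      rwa [gA_inv] at this
    constructor
    · rw [mem_upper]
      intro i j hji
      obtain ⟨a, rfl⟩ := (idxEquiv m).surjective i
      obtain ⟨b, rfl⟩ := (idxEquiv m).surjective j
      rw [toGLH_apply]
      rw [Fin.lt_def] at hji
      rcases a with a | a <;> rcases b with b | b
      · rw [idx_val_inl, idx_val_inl] at hji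
        rw [← gA_apply, hA a b (by rw [Fin.le_def]; omega), if_neg]
        intro e; rw [e] at hji; exact lt_irrefl _ hji
      · rw [idx_val_inl, idx_val_inr] at hji
        have := a.2; have := b.2
        omega
      · rw [← gC_apply, hC, Matrix.zero_apply]
      · rw [idx_val_inr, idx_val_inr] at hji
        have := a.2; have := b.2
        have h1 := hD b a (by rw [Fin.le_def]; omega)
        rw [Matrix.transpose_apply, if_neg] at h1
        · rw [← gD_apply, h1]
        · intro e; rw [e] at hji; exact lt_irrefl _ hji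
    · intro i
      obtain ⟨a, rfl⟩ := (idxEquiv m).surjective i
      rw [toGLH_apply]
      rcases a with a | a
      · rw [← gA_apply, hA a a le_rfl, if_pos rfl]
      · have h1 := hD a a le_rfl
        rw [Matrix.transpose_apply, if_pos rfl] at h1
        rw [← gD_apply, h1]
  · rintro ⟨hu, hd⟩
    rw [mem_US]
    constructor
    · ext i j
      rw [gC_apply, ← toGLH_apply, Matrix.zero_apply]
      apply (mem_upper.1 hu)
      rw [Fin.lt_def, idx_val_inl, idx_val_inr]
      have := i.2; have := j.2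
      omega
    · intro i j hji
      rw [gA_apply, ← toGLH_apply]
      by_cases hij : i = j
      · subst hij
        rw [if_pos rfl, hd]
      · rw [if_neg hij]
        apply (mem_upper.1 hu)
        rw [Fin.lt_def, idx_val_inl, idx_val_inl]
        rw [Fin.le_def] at hji
        have : (i : ℕ) ≠ j := fun e => hij (Fin.ext e)
        omega

theorem spIso_mem_BG_of_mem_US [Finite F] {v : SpG m F} (hv : v ∈ (US : Subgroup (SpG m F))) :
    spIso m F v ∈ BG m F := by
  rw [mem_BG, spIso_coe]
  exact ((mem_US_iff v).1 hv).1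

/-- a unitriangular diagonal matrix is trivial -/
theorem eq_one_of_mem_US_of_mem_diagK [Finite F] (hm : 0 < m) {v : SpG m F}
    (hv : v ∈ (US : Subgroup (SpG m F))) (hd : spIso m F v ∈ diagK hm) : v = 1 := by
  apply toGLH_injective
  rw [map_one]
  apply Units.ext
  ext i j
  have h1 := (mem_diagK_iff hm).1 hd
  rw [spIso_coe] at h1
  rw [Units.val_one, Matrix.one_apply]
  by_cases hij : i = j
  · subst hij
    rw [if_pos rfl, ((mem_US_iff v).1 hv).2]
  · rw [if_neg hij]
    apply h1
    simpa using hij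

/-- the map from the unitriangular group to the cosets of the torus in the Borel subgroup -/
noncomputable def usToBmodK [Finite F] (hm : 0 < m) (u : ↥(US : Subgroup (SpG m F))) :
    BmodK m F hm :=
  QuotientGroup.mk (⟨spIso m F u, spIso_mem_BG_of_mem_US u.2⟩ : ↥(BG m F))

theorem usToBmodK_bijective [Finite F] (hm : 0 < m) :
    Function.Bijective (usToBmodK (m := m) (F := F) hm) := by
  constructor
  · intro u u' h
    unfold usToBmodK at h
    rw [QuotientGroup.eq, Subgroup.mem_subgroupOf] at h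
    have h1 : (((⟨spIso m F u, spIso_mem_BG_of_mem_US u.2⟩ : ↥(BG m F))⁻¹ *
        (⟨spIso m F u', spIso_mem_BG_of_mem_US u'.2⟩ : ↥(BG m F)) : ↥(BG m F)) : ↥(SpH m F))
        = spIso m F ((u⁻¹ * u' : ↥(US : Subgroup (SpG m F))) : SpG m F) := by
      rw [Subgroup.coe_mul, Subgroup.coe_inv, Subgroup.coe_mul, Subgroup.coe_inv, map_mul,
        map_inv]
    rw [h1] at h
    have h2 := eq_one_of_mem_US_of_mem_diagK hm (u⁻¹ * u').2 h
    have h3 : u⁻¹ * u' = 1 := Subtype.ext h2
    exact inv_mul_eq_one.1 h3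
  · intro x
    induction x using QuotientGroup.induction_on with
    | H b =>
      have hbB : ((b : ↥(SpH m F)) : GL (Fin (2 * m)) F) ∈ BH m F := mem_BG'.1 b.2
      have hbu := (mem_BH.1 hbB).1
      set t : ↥(SpH m F) := ⟨dgOf _ hbu, dgOf_mem_SpH hbB⟩ with ht
      have htK : t ∈ diagK hm := by
        rw [mem_diagK_iff]
        exact isMono_dgOf _ hbu
      set w : ↥(SpH m F) := (b : ↥(SpH m F)) * t⁻¹ with hw
      set v : SpG m F := (spIso m F).symm w with hv
      have hvw : spIso m F v = w := (spIso m F).apply_symm_apply w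
      have hwcoe : toGLH m F v = ((b : ↥(SpH m F)) : GL (Fin (2 * m)) F) * (dgOf _ hbu)⁻¹ := by
        rw [← spIso_coe, hvw, hw, Subgroup.coe_mul, Subgroup.coe_inv]
      have hvU : v ∈ (US : Subgroup (SpG m F)) := by
        rw [mem_US_iff, hwcoe]
        constructor
        · rw [mem_upper]
          intro i j hji
          rw [mul_dgOf_inv_apply, (mem_upper.1 hbu) i j hji, zero_mul]
        · intro i
          rw [mul_dgOf_inv_apply]
          exact mul_inv_cancel₀ (upper_diag_ne_zero hbu i)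
      refine ⟨⟨v, hvU⟩, ?_⟩
      unfold usToBmodK
      rw [QuotientGroup.eq, Subgroup.mem_subgroupOf]
      have h1 : (((⟨spIso m F v, spIso_mem_BG_of_mem_US hvU⟩ : ↥(BG m F))⁻¹ * b : ↥(BG m F))
          : ↥(SpH m F)) = t := by
        rw [Subgroup.coe_mul, Subgroup.coe_inv]
        show (spIso m F v)⁻¹ * (b : ↥(SpH m F)) = t
        rw [hvw, hw]
        group
      rw [h1]
      exact htK

/-- **The index of the torus in the Borel subgroup is the order of a Sylow `p`-subgroup.** -/
theorem card_BmodK_eq [Finite F] (hm : 0 < m) (p : ℕ) [Fact p.Prime] [CharP F p] :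
    Nat.card (BmodK m F hm) = p ^ (Nat.card ↥(SpH m F)).factorization p := by
  rw [← Nat.card_congr (Equiv.ofBijective _ (usToBmodK_bijective (m := m) (F := F) hm)),
    card_US_eq p, Nat.card_congr (spIso m F).toEquiv]

end Cfsg.Agent.Lib.Helper8.SpBN
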