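import Mathlib
import Cfsg.Agent.Lib.Helper8.SpBN.Orders
import Cfsg.Agent.Lib.Helper8.SpBN.Longest

/-!
# The unitriangular subgroup of the symplectic group (helper8)
-/

set_option autoImplicit false

namespace Cfsg.Agent.Lib.Helper8.SpBN

open Matrix Cfsg Cfsg.Agent.Lib.Helper5.GLBN Cfsg.Agent.Lib.Helper5.BN
open Cfsg.Agent.H9.SpA Cfsg.Agent.H9.SpB
open scoped MatrixGroups

variable {m : ℕ} {F : Type*} [Field F]

/-! ### diagonals of upper triangular matrices -/

theorem upper_mul_diag {n : ℕ} {a b : GL (Fin n) F} (ha : a ∈ upperTriangularGL n F)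
    (hb : b ∈ upperTriangularGL n F) (i : Fin n) :
    ((a * b : GL (Fin n) F) : Matrix (Fin n) (Fin n) F) i i
      = (a : Matrix (Fin n) (Fin n) F) i i * (b : Matrix (Fin n) (Fin n) F) i i := by
  rw [Units.val_mul, Matrix.mul_apply, Finset.sum_eq_single i]
  · intro k _ hk
    rcases lt_or_gt_of_ne hk with h | h
    · rw [(mem_upper.1 ha) i k h, zero_mul]
    · rw [(mem_upper.1 hb) k i h, mul_zero]
  · intro h; exact absurd (Finset.mem_univ i) h

theorem upper_pow_diag {n : ℕ} {b : GL (Fin n) F} (hb : b ∈ upperTriangularGL n F) (k : ℕ)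
    (i : Fin n) :
    ((b ^ k : GL (Fin n) F) : Matrix (Fin n) (Fin n) F) i i
      = ((b : Matrix (Fin n) (Fin n) F) i i) ^ k := by
  induction k with
  | zero => simp
  | succ k ih =>
    rw [pow_succ, upper_mul_diag (pow_mem hb k) hb, ih, pow_succ]

/-! ### the unitriangular group -/

/-- the unitriangular symplectic group -/
noncomputable def UG (m : ℕ) (F : Type*) [Field F] [Finite F] : Subgroup ↥(SpH m F) :=
  (US : Subgroup (SpG m F)).map (spIso m F).toMonoidHom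

theorem mem_UG_iff [Finite F] {g : ↥(SpH m F)} :
    g ∈ UG m F ↔ ((g : GL (Fin (2 * m)) F) ∈ upperTriangularGL (2 * m) F ∧
      ∀ i, ((g : GL (Fin (2 * m)) F) : Matrix (Fin (2 * m)) (Fin (2 * m)) F) i i = 1) := by
  unfold UG
  rw [Subgroup.mem_map]
  constructor
  · rintro ⟨v, hv, rfl⟩
    have := (mem_US_iff v).1 hv
    exact this
  · intro h
    refine ⟨(spIso m F).symm g, ?_, (spIso m F).apply_symm_apply g⟩
    rw [mem_US_iff]
    have e : toGLH m F ((spIso m F).symm g) = (g : GL (Fin (2 * m)) F) := by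
      rw [← spIso_coe, (spIso m F).apply_symm_apply g]
    rw [e]
    exact h

theorem UG_le_BG [Finite F] : UG m F ≤ BG m F := by
  intro g hg
  rw [mem_BG]
  exact (mem_UG_iff.1 hg).1

theorem card_UG [Finite F] (p : ℕ) [Fact p.Prime] [CharP F p] :
    Nat.card (UG m F) = p ^ (Nat.card ↥(SpH m F)).factorization p := by
  unfold UG
  rw [Nat.card_congr ((US : Subgroup (SpG m F)).equivMapOfInjective (spIso m F).toMonoidHom
    (spIso m F).injective).symm.toEquiv, card_US_eq p, Nat.card_congr (spIso m F).toEquiv]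

theorem isPGroup_UG [Finite F] (p : ℕ) [Fact p.Prime] [CharP F p] : IsPGroup p (UG m F) :=
  (isPGroup_US p).map _

theorem UG_index_not_dvd [Finite F] (p : ℕ) [hp : Fact p.Prime] [CharP F p] :
    ¬ p ∣ (UG m F).index := by
  intro h
  have h1 := (UG m F).index_mul_card
  obtain ⟨v, hv⟩ : ∃ v, v = (Nat.card ↥(SpH m F)).factorization p := ⟨_, rfl⟩
  rw [card_UG p, ← hv] at h1
  have h2 : p ^ (v + 1) ∣ Nat.card ↥(SpH m F) := by
    rw [← h1, pow_succ, mul_comm]
    exact Nat.mul_dvd_mul h (dvd_refl _)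
  rw [hv] at h2
  exact Nat.pow_succ_factorization_not_dvd Nat.card_pos.ne' hp.out h2

theorem UG_normal [Finite F] : ∀ b ∈ BG m F, ∀ u ∈ UG m F, b * u * b⁻¹ ∈ UG m F := by
  intro b hb u hu
  rw [mem_BG] at hb
  obtain ⟨hu1, hu2⟩ := mem_UG_iff.1 hu
  rw [mem_UG_iff]
  simp only [Subgroup.coe_mul, Subgroup.coe_inv]
  refine ⟨mul_mem (mul_mem hb hu1) (inv_mem hb), ?_⟩
  intro i
  rw [upper_mul_diag (mul_mem hb hu1) (inv_mem hb), upper_mul_diag hb hu1, hu2, mul_one]
  have := upper_inv_diag hb i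
  rw [mul_comm] at this
  exact this

theorem mem_UG_of_pElement [Finite F] (p : ℕ) [hp : Fact p.Prime] [CharP F p] :
    ∀ b ∈ BG m F, (∃ k, orderOf b = p ^ k) → b ∈ UG m F := by
  rintro b hb ⟨k, hk⟩
  rw [mem_BG] at hb
  rw [mem_UG_iff]
  refine ⟨hb, ?_⟩
  intro i
  have h1 : b ^ p ^ k = 1 := by rw [← hk]; exact pow_orderOf_eq_one b
  have h2 : ((b : GL (Fin (2 * m)) F) ^ p ^ k) = 1 := by
    rw [← Subgroup.coe_pow, h1, Subgroup.coe_one]
  have h3 := upper_pow_diag hb (p ^ k) i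
  rw [h2] at h3
  have h4 : (((b : GL (Fin (2 * m)) F) : Matrix (Fin (2 * m)) (Fin (2 * m)) F) i i) ^ p ^ k
      = 1 := by
    rw [← h3]; simp
  have h5 : ((((b : GL (Fin (2 * m)) F) : Matrix (Fin (2 * m)) (Fin (2 * m)) F) i i) - 1) ^ p ^ k
      = 0 := by
    rw [sub_pow_char_pow, h4, one_pow, sub_self]
  exact sub_eq_zero.1 (pow_eq_zero_iff (pow_pos hp.out.pos k).ne' |>.1 h5)

/-! ### the torus -/

theorem exists_torus_decomp [Finite F] (hm : 0 < m) {b : ↥(SpH m F)} (hb : b ∈ BG m F) :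
    ∃ t ∈ diagK hm, b * t⁻¹ ∈ UG m F := by
  have hbB : ((b : ↥(SpH m F)) : GL (Fin (2 * m)) F) ∈ BH m F := mem_BG'.1 hb
  have hbu := (mem_BH.1 hbB).1
  refine ⟨⟨dgOf _ hbu, dgOf_mem_SpH hbB⟩, ?_, ?_⟩
  · rw [mem_diagK_iff]
    exact isMono_dgOf _ hbu
  · rw [mem_UG_iff]
    simp only [Subgroup.coe_mul, Subgroup.coe_inv]
    constructor
    · rw [mem_upper]
      intro i j hji
      rw [mul_dgOf_inv_apply, (mem_upper.1 hbu) i j hji, zero_mul]
    · intro i
      rw [mul_dgOf_inv_apply]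
      exact mul_inv_cancel₀ (upper_diag_ne_zero hbu i)

end Cfsg.Agent.Lib.Helper8.SpBN
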