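import Mathlib
import Cfsg.Agent.Lib.Helper8.SpBN.Orders
import Cfsg.Agent.Lib.Helper5.SpProjRank
import Cfsg.Agent.Lib.helper3.Inflate2
import Cfsg.Agent.Lib.helper3.Irr12
import Cfsg.Agent.Lib.helper3.DefectZero

/-!
# The Steinberg character of `PSp_{2m}(F)` (helper8, for S2545)
-/

set_option autoImplicit false

namespace Cfsg.Agent.Lib.Helper8.SpBN

open Matrix Cfsg Cfsg.Agent.Lib.Helper5.GLBN Cfsg.Agent.Lib.Helper5.BN Cfsg.Agent.Lib.helper3
open Cfsg.Agent.Lib.helper3.Irr Cfsg.Agent.Lib.Helper5.SpProj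
open scoped MatrixGroups

variable {m : ℕ} {F : Type*} [Field F]

/-- the Steinberg character of Mathlib's symplectic group -/
noncomputable def stSpM (hm : 0 < m) (g : ↥(Matrix.symplecticGroup (Fin m) F)) : ℂ :=
  stSp hm (spIso m F g)

theorem isIrrCharacter_stSpM [Finite F] (hm : 0 < m) :
    IsIrrCharacter ↥(Matrix.symplecticGroup (Fin m) F) (stSpM (F := F) hm) :=
  isIrrCharacter_comp_mulEquiv (spIso m F) (isIrrCharacter_stSp hm)

/-! ### central elements -/

theorem spIso_mem_center {z : ↥(Matrix.symplecticGroup (Fin m) F)}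
    (hz : z ∈ Subgroup.center ↥(Matrix.symplecticGroup (Fin m) F)) :
    spIso m F z ∈ Subgroup.center ↥(SpH m F) := by
  rw [Subgroup.mem_center_iff]
  intro y
  obtain ⟨y', rfl⟩ := (spIso m F).surjective y
  rw [← map_mul, ← map_mul, Subgroup.mem_center_iff.1 hz y']

theorem spIso_center_mem_BG (hm : 1 ≤ m) {z : ↥(Matrix.symplecticGroup (Fin m) F)}
    (hz : z ∈ Subgroup.center ↥(Matrix.symplecticGroup (Fin m) F)) :
    spIso m F z ∈ BG m F := by
  rw [mem_BG, spIso_coe, mem_upper]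
  intro i j hji
  rw [toGLH_coe]
  rcases center_cases m hm z hz with h | h
  · rw [h, OneMemClass.coe_one, map_one, Matrix.one_apply_ne (ne_of_gt hji)]
  · rw [h, negOne_val, map_neg, map_one, Matrix.neg_apply, Matrix.one_apply_ne (ne_of_gt hji),
      neg_zero]

theorem stSpM_mul_central (hm : 0 < m) (g z : ↥(Matrix.symplecticGroup (Fin m) F))
    (hz : z ∈ Subgroup.center ↥(Matrix.symplecticGroup (Fin m) F)) :
    stSpM (F := F) hm (g * z) = stSpM (F := F) hm g := by
  unfold stSpM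
  rw [map_mul, stSp_mul_central hm _ _ (spIso_mem_center hz) (spIso_center_mem_BG hm hz)]

theorem stSpM_one [Finite F] (hm : 0 < m) (p : ℕ) [Fact p.Prime] [CharP F p] :
    stSpM (F := F) hm 1
      = (p ^ (Nat.card ↥(Matrix.symplecticGroup (Fin m) F)).factorization p : ℕ) := by
  unfold stSpM
  rw [map_one, stSp_one, card_BmodK_eq hm p, Nat.card_congr (spIso m F).toEquiv]

/-! ### the Sylow subgroups of `PSp_{2m}(F)` -/

theorem coprime_card_center_sp [Fintype F] (p : ℕ) [hp : Fact p.Prime] [CharP F p]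
    (hm : 1 ≤ m) :
    (Nat.card (Subgroup.center ↥(Matrix.symplecticGroup (Fin m) F))).Coprime p := by
  have hpp : p.Prime := hp.out
  rw [Cfsg.Agent.S0246.result (F := F) rfl m hm, Nat.coprime_comm, hpp.coprime_iff_not_dvd]
  intro h
  have h2 : p ∣ Fintype.card F - 1 := h.trans (Nat.gcd_dvd_right _ _)
  have h3 : p ∣ Fintype.card F := by
    have : ((Fintype.card F : ℕ) : F) = 0 := Nat.cast_card_eq_zero F
    exact (CharP.cast_eq_zero_iff F p _).mp this
  have h4 : 1 ≤ Fintype.card F := Fintype.card_pos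
  have h5 : p ∣ 1 := by
    have := Nat.dvd_sub h3 h2
    have e : Fintype.card F - (Fintype.card F - 1) = 1 := by omega
    rwa [e] at this
  exact hpp.one_lt.ne' (Nat.dvd_one.mp h5)

theorem card_sylow_psp [Fintype F] (p : ℕ) [hp : Fact p.Prime] [CharP F p] (hm : 1 ≤ m)
    (P : Sylow p (Cfsg.PSp m F)) :
    Nat.card P = p ^ (Nat.card ↥(Matrix.symplecticGroup (Fin m) F)).factorization p := by
  have hpp : p.Prime := hp.out
  rw [P.card_eq_multiplicity]
  congr 1
  have h1 := Subgroup.card_eq_card_quotient_mul_card_subgroup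
    (Subgroup.center ↥(Matrix.symplecticGroup (Fin m) F))
  rw [h1, Nat.factorization_mul Nat.card_pos.ne' Nat.card_pos.ne', Finsupp.add_apply,
    Nat.factorization_eq_zero_of_not_dvd
      (hpp.coprime_iff_not_dvd.1 (coprime_card_center_sp (m := m) (F := F) p hm).symm), add_zero]

/-- **The Steinberg character of `PSp_{2m}(F)`.** -/
theorem steinberg_psp [Fintype F] (p : ℕ) [hp : Fact p.Prime] [CharP F p] (m : ℕ) (hm : 1 ≤ m) :
    ∃ χ : Cfsg.PSp m F → ℂ, IsIrrCharacter (Cfsg.PSp m F) χ ∧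
      ∀ P : Sylow p (Cfsg.PSp m F),
        χ 1 = Nat.card P ∧ ∀ x : Cfsg.PSp m F, x ∈ P → x ≠ 1 → χ x = 0 := by
  classical
  have hpp : p.Prime := hp.out
  have hm0 : 0 < m := hm
  obtain ⟨ψ, hψ, hinf⟩ := exists_eq_inflate (isIrrCharacter_stSpM (m := m) (F := F) hm0)
    (Subgroup.center ↥(Matrix.symplecticGroup (Fin m) F))
    (fun g z hz => stSpM_mul_central hm0 g z hz)
  have hψ1 : ψ 1
      = (p ^ (Nat.card ↥(Matrix.symplecticGroup (Fin m) F)).factorization p : ℕ) := by
    rw [← stSpM_one (m := m) (F := F) hm0 p, hinf, inflate_apply, QuotientGroup.mk_one]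
  refine ⟨ψ, hψ, fun P => ⟨?_, ?_⟩⟩
  · rw [hψ1, card_sylow_psp p hm P]
  · intro x hxP hx1
    let _ : Fintype (Cfsg.PSp m F) := Fintype.ofFinite _
    obtain ⟨d, ρ, hirr, hρ⟩ := hψ
    have := hirr
    set a := (Nat.card (Cfsg.PSp m F)).factorization p with ha
    have hcardP : Nat.card P = p ^ a := P.card_eq_multiplicity
    have hd : d = p ^ a := by
      have h1 : ρ.character 1 = (d : ℂ) := by
        rw [Representation.char_one]
        simp
      rw [hρ, hψ1, ← card_sylow_psp p hm P, hcardP] at h1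
      exact_mod_cast h1.symm
    have hn' : ¬ p ^ (a + 1) ∣ Nat.card (Cfsg.PSp m F) :=
      Nat.pow_succ_factorization_not_dvd Nat.card_pos.ne' hpp
    have hdeg : p ^ a ∣ Module.finrank ℂ (Fin d → ℂ) := by
      rw [Module.finrank_fin_fun, hd]
    have hx : p ∣ orderOf x := by
      obtain ⟨k, hk⟩ := (IsPGroup.iff_orderOf.1 P.isPGroup') ⟨x, hxP⟩
      rw [Subgroup.orderOf_mk] at hk
      rw [hk]
      apply dvd_pow_self
      intro hk0
      rw [hk0, pow_zero, orderOf_eq_one_iff] at hk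
      exact hx1 hk
    rw [← hρ]
    exact BrauerInd.character_eq_zero_of_defect_zero ρ p a hn' hdeg x hx

end Cfsg.Agent.Lib.Helper8.SpBN
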