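import Mathlib
import Cfsg.Agent.Lib.Helper8.SpBN.UGrp
import Cfsg.Agent.Lib.Helper5.Unip.Abstract

/-!
# The split (B,N)-pair data of the symplectic group (helper8, for S2316)
-/

set_option autoImplicit false

namespace Cfsg.Agent.Lib.Helper8.SpBN

open Matrix Cfsg Cfsg.Agent.Lib.Helper5.GLBN Cfsg.Agent.Lib.Helper5.BN DoubleCoset
open scoped MatrixGroups

variable {m : ℕ} {F : Type*} [Field F]

/-! ### a counting lemma -/

theorem card_mul_card_of_sup_eq {G : Type*} [Group G] [Finite G] (B U H : Subgroup G)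
    (hU : U ≤ B) (hH : H ≤ B) (hn : ∀ b ∈ B, ∀ u ∈ U, b * u * b⁻¹ ∈ U)
    (hsup : ∀ b ∈ B, ∃ h ∈ H, b * h⁻¹ ∈ U) :
    Nat.card H * Nat.card U = Nat.card B * Nat.card (U ⊓ H : Subgroup G) := by
  have hUn : (U.subgroupOf B).Normal := ⟨fun u hu b => by
    rw [Subgroup.mem_subgroupOf] at hu ⊢
    simp only [Subgroup.coe_mul, Subgroup.coe_inv]
    exact hn b b.2 u hu⟩
  have htop : H.subgroupOf B ⊔ U.subgroupOf B = ⊤ := by
    rw [eq_top_iff]
    intro b _
    obtain ⟨h, hh, hu⟩ := hsup b b.2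
    have e : b = (⟨(b : G) * h⁻¹, hU hu⟩ : ↥B) * ⟨h, hH hh⟩ := by
      apply Subtype.ext
      simp
    rw [e]
    exact mul_mem (Subgroup.mem_sup_right (Subgroup.mem_subgroupOf.2 hu))
      (Subgroup.mem_sup_left (Subgroup.mem_subgroupOf.2 hh))
  have h1 : (U.subgroupOf B).index = (U.subgroupOf B ⊓ H.subgroupOf B).relIndex (H.subgroupOf B) := by
    rw [Subgroup.inf_relIndex_right, ← Subgroup.relIndex_sup_right, htop,
      Subgroup.relIndex_top_right]
  have h2 : Nat.card ↥B = Nat.card (U.subgroupOf B) * (U.subgroupOf B).index :=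
    (Subgroup.card_mul_index (U.subgroupOf B)).symm
  have h3 : Nat.card (H.subgroupOf B)
      = Nat.card (U.subgroupOf B ⊓ H.subgroupOf B : Subgroup ↥B)
        * (U.subgroupOf B ⊓ H.subgroupOf B).relIndex (H.subgroupOf B) := by
    rw [← Subgroup.relIndex_bot_left, ← Subgroup.relIndex_bot_left,
      Subgroup.relIndex_mul_relIndex _ _ _ bot_le inf_le_right]
  have e1 : Nat.card (U.subgroupOf B) = Nat.card U :=
    Nat.card_congr (Subgroup.subgroupOfEquivOfLe hU).toEquiv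
  have e2 : Nat.card (H.subgroupOf B) = Nat.card H :=
    Nat.card_congr (Subgroup.subgroupOfEquivOfLe hH).toEquiv
  have e3 : Nat.card (U.subgroupOf B ⊓ H.subgroupOf B : Subgroup ↥B)
      = Nat.card (U ⊓ H : Subgroup G) := by
    have : U.subgroupOf B ⊓ H.subgroupOf B = (U ⊓ H).subgroupOf B := by
      ext x
      simp [Subgroup.mem_subgroupOf, Subgroup.mem_inf]
    rw [this]
    exact Nat.card_congr (Subgroup.subgroupOfEquivOfLe (inf_le_left.trans hU)).toEquiv
  rw [← e1, ← e2, ← e3, h3, h2, ← h1]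
  ring

/-! ### the longest elements -/

/-- the longest element of `W_K` -/
noncomputable def nK (m : ℕ) (F : Type*) [Field F] (K : Finset ℕ) : ↥(SpH m F) :=
  Classical.choose (exists_longest (m := m) (F := F) K)

/-- its permutation -/
noncomputable def wK (m : ℕ) (F : Type*) [Field F] (K : Finset ℕ) : Equiv.Perm (Fin (2 * m)) :=
  Classical.choose (Classical.choose_spec (exists_longest (m := m) (F := F) K)).2

theorem nK_mem (K : Finset ℕ) : nK m F K ∈ Subgroup.closure (sG m F '' (K : Set ℕ)) :=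
  (Classical.choose_spec (exists_longest (m := m) (F := F) K)).1

theorem nK_mono (K : Finset ℕ) :
    IsMono (((nK m F K : ↥(SpH m F)) : GL (Fin (2 * m)) F)
      : Matrix (Fin (2 * m)) (Fin (2 * m)) F) (wK m F K) :=
  (Classical.choose_spec (Classical.choose_spec (exists_longest (m := m) (F := F) K)).2).1

theorem wK_pres (K : Finset ℕ) : PresL K (wK m F K) :=
  (Classical.choose_spec (Classical.choose_spec (exists_longest (m := m) (F := F) K)).2).2.1

theorem wK_rev (K : Finset ℕ) : ∀ a b : Fin (2 * m), a < b → LabF m K a = LabF m K b →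
    wK m F K b < wK m F K a :=
  (Classical.choose_spec (Classical.choose_spec (exists_longest (m := m) (F := F) K)).2).2.2

theorem wK_inv_rev (K : Finset ℕ) {a b : Fin (2 * m)} (hab : a < b)
    (hL : LabF m K a = LabF m K b) : (wK m F K)⁻¹ b < (wK m F K)⁻¹ a := by
  by_contra hcon
  have hne : (wK m F K)⁻¹ a ≠ (wK m F K)⁻¹ b := fun e => (ne_of_lt hab) ((wK m F K)⁻¹.injective e)
  have hlt := lt_of_le_of_ne (not_lt.1 hcon) hne
  have h1 := wK_rev (F := F) K _ _ hlt (by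
    rw [(wK_pres (F := F) K).inv a, (wK_pres (F := F) K).inv b, hL])
  have e1 : wK m F K ((wK m F K)⁻¹ a) = a := by simp
  have e2 : wK m F K ((wK m F K)⁻¹ b) = b := by simp
  rw [e1, e2] at h1
  exact absurd h1 (not_lt.2 hab.le)

/-- conjugation by the longest element of `W_K` -/
theorem nK_conj_mem_upper_iff (K : Finset ℕ) (g : GL (Fin (2 * m)) F) :
    ((nK m F K : ↥(SpH m F)) : GL (Fin (2 * m)) F) * g
        * ((nK m F K : ↥(SpH m F)) : GL (Fin (2 * m)) F)⁻¹ ∈ upperTriangularGL (2 * m) F ↔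
      ∀ i j, j < i → (g : Matrix (Fin (2 * m)) (Fin (2 * m)) F) ((wK m F K)⁻¹ i) ((wK m F K)⁻¹ j)
        = 0 := by
  have h := mono_conj_mem_upper_iff (nK_mono (F := F) K).inv g
  rw [inv_inv] at h
  exact h

/-! ### the subgroups `B_K` and `U_K` -/

/-- `B ∩ n_K⁻¹ B n_K` -/
noncomputable def BKG (m : ℕ) (F : Type*) [Field F] (K : Finset ℕ) : Subgroup ↥(SpH m F) :=
  BG m F ⊓ (BG m F).comap (MulAut.conj (nK m F K)).toMonoidHom

theorem mem_BKG {K : Finset ℕ} {g : ↥(SpH m F)} :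
    g ∈ BKG m F K ↔ g ∈ BG m F ∧ nK m F K * g * (nK m F K)⁻¹ ∈ BG m F := by
  unfold BKG
  rw [Subgroup.mem_inf, Subgroup.mem_comap]
  simp

/-- the unipotent radical of the parabolic subgroup `P_K` -/
noncomputable def UKG (m : ℕ) (F : Type*) [Field F] [Finite F] (K : Finset ℕ) :
    Subgroup ↥(SpH m F) := UG m F ⊓ BKG m F K

theorem mem_UKG_iff [Finite F] {K : Finset ℕ} {g : ↥(SpH m F)} :
    g ∈ UKG m F K ↔ BlkS (LabF m K)
      (((g : GL (Fin (2 * m)) F) : Matrix (Fin (2 * m)) (Fin (2 * m)) F) - 1) := by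
  unfold UKG
  rw [Subgroup.mem_inf, mem_BKG, mem_UG_iff, mem_BG, mem_BG]
  simp only [Subgroup.coe_mul, Subgroup.coe_inv]
  rw [nK_conj_mem_upper_iff]
  constructor
  · rintro ⟨⟨hu, hd⟩, -, hc⟩ a b hL
    rw [Matrix.sub_apply]
    by_cases hab : a = b
    · subst hab
      rw [hd, Matrix.one_apply_eq, sub_self]
    · rw [Matrix.one_apply_ne hab, sub_zero]
      rcases lt_or_gt_of_ne hab with h | h
      · have hL' : LabF m K a = LabF m K b := le_antisymm (LabF_mono K h.le) hL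
        have h1 := wK_rev (F := F) K a b h hL'
        have h2 := hc _ _ h1
        simpa using h2
      · exact (mem_upper.1 hu) a b h
  · intro h
    have hu : ((g : ↥(SpH m F)) : GL (Fin (2 * m)) F) ∈ upperTriangularGL (2 * m) F := by
      rw [mem_upper]
      intro i j hji
      have := h i j (LabF_mono K hji.le)
      rw [Matrix.sub_apply, Matrix.one_apply_ne (ne_of_gt hji), sub_zero] at this
      exact this
    refine ⟨⟨hu, ?_⟩, hu, ?_⟩
    · intro i
      have := h i i le_rfl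
      rw [Matrix.sub_apply, Matrix.one_apply_eq] at this
      exact sub_eq_zero.1 this
    · intro i j hji
      have hne : (wK m F K)⁻¹ i ≠ (wK m F K)⁻¹ j := fun e =>
        (ne_of_gt hji) ((wK m F K)⁻¹.injective e)
      by_cases hL : LabF m K ((wK m F K)⁻¹ j) ≤ LabF m K ((wK m F K)⁻¹ i)
      · have := h _ _ hL
        rw [Matrix.sub_apply, Matrix.one_apply_ne hne, sub_zero] at this
        exact this
      · exfalso
        rw [(wK_pres (F := F) K).inv, (wK_pres (F := F) K).inv] at hL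
        exact hL (LabF_mono K hji.le)

/-! ### the parabolic subgroups normalize the radicals -/

/-- the block upper triangular symplectic matrices -/
def QKG (m : ℕ) (F : Type*) [Field F] (K : Finset ℕ) : Subgroup ↥(SpH m F) where
  carrier := {g | BlkU (LabF m K) (((g : GL (Fin (2 * m)) F)
      : Matrix (Fin (2 * m)) (Fin (2 * m)) F)) ∧
    BlkU (LabF m K) ((((g : GL (Fin (2 * m)) F)⁻¹ : GL (Fin (2 * m)) F)
      : Matrix (Fin (2 * m)) (Fin (2 * m)) F))}
  one_mem' := by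
    have : BlkU (LabF m K) (1 : Matrix (Fin (2 * m)) (Fin (2 * m)) F) := by
      intro i j hij
      rw [Matrix.one_apply_ne]
      intro e; rw [e] at hij; exact lt_irrefl _ hij
    constructor
    · simpa using this
    · simpa using this
  mul_mem' := by
    rintro a b ⟨ha, ha'⟩ ⟨hb, hb'⟩
    constructor
    · rw [Subgroup.coe_mul, Units.val_mul]
      exact ha.mul hb
    · rw [Subgroup.coe_mul, _root_.mul_inv_rev, Units.val_mul]
      exact hb'.mul ha'
  inv_mem' := by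
    rintro a ⟨ha, ha'⟩
    constructor
    · rw [Subgroup.coe_inv]; exact ha'
    · rw [Subgroup.coe_inv, inv_inv]; exact ha

theorem mem_QKG {K : Finset ℕ} {g : ↥(SpH m F)} :
    g ∈ QKG m F K ↔ BlkU (LabF m K) (((g : GL (Fin (2 * m)) F)
      : Matrix (Fin (2 * m)) (Fin (2 * m)) F)) ∧
    BlkU (LabF m K) ((((g : GL (Fin (2 * m)) F)⁻¹ : GL (Fin (2 * m)) F)
      : Matrix (Fin (2 * m)) (Fin (2 * m)) F)) := Iff.rfl

theorem parabolic_le_QKG (hm : 0 < m) (K : Finset ℕ) :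
    (spBN m F hm).parabolic (sG m F '' (K : Set ℕ)) ≤ QKG m F K := by
  unfold BNPair.parabolic
  apply sup_le
  · intro b hb
    have hb' : b ∈ BG m F := hb
    rw [mem_BG] at hb'
    exact ⟨blkU_of_upper (fun _ _ h => LabF_mono K h) hb',
      blkU_of_upper (fun _ _ h => LabF_mono K h) (inv_mem hb')⟩
  · intro n hn
    obtain ⟨π, hπ, hP⟩ := closure_mono K hn
    exact ⟨blkU_of_mono hπ hP, blkU_of_mono hπ.inv hP.inv⟩

theorem UKG_normal [Finite F] (hm : 0 < m) (K : Finset ℕ) :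
    ∀ g ∈ (spBN m F hm).parabolic (sG m F '' (K : Set ℕ)), ∀ u ∈ UKG m F K,
      g * u * g⁻¹ ∈ UKG m F K := by
  intro g hg u hu
  obtain ⟨h1, h2⟩ := mem_QKG.1 (parabolic_le_QKG hm K hg)
  rw [mem_UKG_iff] at hu ⊢
  have e : (((g * u * g⁻¹ : ↥(SpH m F)) : GL (Fin (2 * m)) F)
      : Matrix (Fin (2 * m)) (Fin (2 * m)) F) - 1
      = ((g : GL (Fin (2 * m)) F) : Matrix (Fin (2 * m)) (Fin (2 * m)) F)
        * ((((u : GL (Fin (2 * m)) F)) : Matrix (Fin (2 * m)) (Fin (2 * m)) F) - 1)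
        * (((g : GL (Fin (2 * m)) F)⁻¹ : GL (Fin (2 * m)) F)
          : Matrix (Fin (2 * m)) (Fin (2 * m)) F) := by
    simp only [Subgroup.coe_mul, Subgroup.coe_inv, Units.val_mul]
    rw [Matrix.mul_sub, Matrix.sub_mul, Matrix.mul_one, Units.mul_inv]
  rw [e]
  exact (h1.mul_blkS hu).mul_blkU h2

/-! ### the torus -/

theorem diagK_le_BKG (hm : 0 < m) (K : Finset ℕ) : diagK hm ≤ BKG m F K := by
  intro t ht
  rw [mem_BKG]
  refine ⟨diagK_le hm ht, ?_⟩
  rw [mem_BG]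
  simp only [Subgroup.coe_mul, Subgroup.coe_inv]
  rw [nK_conj_mem_upper_iff]
  intro i j hji
  apply (mem_diagK_iff hm).1 ht
  intro e
  rw [Equiv.Perm.one_apply] at e
  exact (ne_of_gt hji) ((wK m F K)⁻¹.injective e)

theorem card_BKG_mul [Finite F] (hm : 0 < m) (K : Finset ℕ) :
    Nat.card (BKG m F K) * Nat.card (UG m F) = Nat.card (BG m F) * Nat.card (UKG m F K) := by
  apply card_mul_card_of_sup_eq (BG m F) (UG m F) (BKG m F K) UG_le_BG inf_le_left UG_normal
  intro b hb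
  obtain ⟨t, ht, hu⟩ := exists_torus_decomp hm hb
  exact ⟨t, diagK_le_BKG hm K ht, hu⟩

/-! ### the lower root elements -/

theorem lowerS_mem_D (hm : 0 < m) {k k' : Fin (2 * m)} (hk : (k : ℕ) + 1 = k')
    (hk' : (k' : ℕ) < m) (hne : k ≠ k') (hYH : Xr k' k hne.symm (1 : F) ∈ SpH m F) :
    (⟨Xr k' k hne.symm (1 : F), hYH⟩ : ↥(SpH m F)) ∈ D (spBN m F hm) (sG m F (k : ℕ)) := by
  have e1 : (-(1 / (-1 : F))) = 1 := by rw [div_neg, neg_neg, div_one]
  have hkm : (k : ℕ) < m := by omega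
  have hlt : k < k' := by rw [Fin.lt_def]; omega
  have hk'ne' : k ≠ k'.rev := by
    intro e
    have := congrArg Fin.val e
    rw [Fin.val_rev] at this
    omega
  have hR := rank_one_short hk hk' hne (-1 : F) (neg_ne_zero.2 one_ne_zero)
  rw [e1] at hR
  have hXB : Xr k k' hne (-1 : F) ∈ BH m F := by
    refine mem_BH.2 ⟨?_, Xr_mem_SpH k k' hne hk'ne' _⟩
    have h1 : tv k k' hne (-1 : F) ∈ upperTriangularGL (2 * m) F := tv_mem_upper hlt _
    exact mul_mem h1 (sigma_mem_upper h1)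
  rw [mem_D]
  refine ⟨⟨(Xr k k' hne (-1 : F))⁻¹, inv_mem (BH_le_SpH hXB)⟩, mem_BG'.2 (inv_mem hXB),
    ⟨_, BH_le_SpH hR⟩, mem_BG'.2 hR, ?_⟩
  apply Subtype.ext
  simp only [Subgroup.coe_mul, sG_coe, sGL_short hk hk']
  have hss := sS_mul_self (F := F) hkm hk'
  calc Xr k' k hne.symm (1 : F)
      = (Xr k k' hne (-1 : F))⁻¹ * (sS k k' * sS k k') * Xr k k' hne (-1) *
        Xr k' k hne.symm 1 := by rw [hss]; group
    _ = _ := by group

theorem lowerL_mem_D (hm : 0 < m) {k : Fin (2 * m)} (hk : (k : ℕ) + 1 = m) (hne : k ≠ k.rev)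
    (hyH : tv k.rev k hne.symm (1 : F) ∈ SpH m F) :
    (⟨tv k.rev k hne.symm (1 : F), hyH⟩ : ↥(SpH m F)) ∈ D (spBN m F hm) (sG m F (k : ℕ)) := by
  have e1 : (-(1 / (-1 : F))) = 1 := by rw [div_neg, neg_neg, div_one]
  have hkm : (k : ℕ) < m := by omega
  have hlt : k < k.rev := by rw [Fin.lt_def, Fin.val_rev]; omega
  have hR := rank_one_long hk hne (-1 : F) (neg_ne_zero.2 one_ne_zero)
  rw [e1] at hR
  have hxB : tv k k.rev hne (-1 : F) ∈ BH m F :=
    mem_BH.2 ⟨tv_mem_upper hlt _, tv_rev_mem_SpH' k k.rev rfl hne _⟩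
  have hS : sG m F (k : ℕ) ∈ (spBN m F hm).S := sG_mem_S hm hkm
  rw [← D_inv_S (spBN m F hm) hS, mem_D]
  refine ⟨⟨(tv k k.rev hne (-1 : F))⁻¹, inv_mem (BH_le_SpH hxB)⟩, mem_BG'.2 (inv_mem hxB),
    ⟨_, BH_le_SpH hR⟩, mem_BG'.2 hR, ?_⟩
  apply Subtype.ext
  simp only [Subgroup.coe_mul, Subgroup.coe_inv, sG_coe, sGL_long hk]
  group

/-- conjugating a transvection by the inverse of a monomial matrix -/
theorem mono_conj_tv {n : ℕ} {ν : GL (Fin n) F} {π : Equiv.Perm (Fin n)}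
    (hν : IsMono (ν : Matrix (Fin n) (Fin n) F) π) (a b : Fin n) (hab : a ≠ b) (c : F) :
    ∃ c' : F, ν⁻¹ * tv a b hab c * ν
      = tv (π⁻¹ a) (π⁻¹ b) (fun h => hab (π⁻¹.injective h)) c' := by
  obtain ⟨c', hc'⟩ := tv_mul_mono hν a b hab c
  refine ⟨c', ?_⟩
  rw [mul_assoc, hc', inv_mul_cancel_left]

/-- the descents of the longest element of `W_K` -/
theorem exists_descent (hm : 0 < m) (K : Finset ℕ) {j : ℕ} (hj : j ∈ K) (hjm : j < m) :
    ∃ b ∈ BG m F, ∃ b' ∈ BG m F,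
      (nK m F K)⁻¹ * (b * sG m F j * b') * nK m F K ∈ BG m F := by
  have hnS : ((nK m F K : ↥(SpH m F)) : GL (Fin (2 * m)) F) ∈ SpH m F := (nK m F K).2
  by_cases h1 : j + 1 < m
  · -- a short node
    obtain ⟨k, hkj⟩ : ∃ k : Fin (2 * m), (k : ℕ) = j := ⟨⟨j, by omega⟩, rfl⟩
    obtain ⟨k', hk'j⟩ : ∃ k' : Fin (2 * m), (k' : ℕ) = j + 1 := ⟨⟨j + 1, by omega⟩, rfl⟩
    have hk : (k : ℕ) + 1 = k' := by omega
    have hk' : (k' : ℕ) < m := by omega
    have hlt : k < k' := by rw [Fin.lt_def]; omega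
    have hne : k ≠ k' := ne_of_lt hlt
    have hk'ne : k' ≠ k.rev := by
      intro e
      have := congrArg Fin.val e
      rw [Fin.val_rev] at this
      omega
    have hYH : Xr k' k hne.symm (1 : F) ∈ SpH m F := Xr_mem_SpH k' k hne.symm hk'ne 1
    have hD := lowerS_mem_D hm hk hk' hne hYH
    rw [hkj, mem_D] at hD
    obtain ⟨b, hb, b', hb', e⟩ := hD
    refine ⟨b, hb, b', hb', ?_⟩
    rw [← e, mem_BG]
    simp only [Subgroup.coe_mul, Subgroup.coe_inv]
    have hnode : nodeOf m k ∈ K := by rw [hkj, nodeOf_of_lt hjm]; exact hj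
    have hL : LabF m K k = LabF m K k' := (LabF_adj hk hnode).symm
    have hw := wK_inv_rev (F := F) K hlt hL
    obtain ⟨c', hc'⟩ := mono_conj_tv (nK_mono (F := F) K) k' k hne.symm (1 : F)
    have h3 : ((nK m F K : ↥(SpH m F)) : GL (Fin (2 * m)) F)⁻¹ * Xr k' k hne.symm (1 : F)
        * ((nK m F K : ↥(SpH m F)) : GL (Fin (2 * m)) F)
        = tv ((wK m F K)⁻¹ k') ((wK m F K)⁻¹ k)
            (fun h => hne.symm ((wK m F K)⁻¹.injective h)) c'
          * sigma m F (tv ((wK m F K)⁻¹ k') ((wK m F K)⁻¹ k)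
            (fun h => hne.symm ((wK m F K)⁻¹.injective h)) c') := by
      rw [← hc', map_mul, map_mul, map_inv, sigma_mem_SpH hnS]
      unfold Xr
      group
    rw [h3]
    have h4 : tv ((wK m F K)⁻¹ k') ((wK m F K)⁻¹ k)
        (fun h => hne.symm ((wK m F K)⁻¹.injective h)) c' ∈ upperTriangularGL (2 * m) F :=
      tv_mem_upper hw c'
    exact mul_mem h4 (sigma_mem_upper h4)
  · -- the long node
    have h2 : j + 1 = m := by omega
    obtain ⟨k, hkj⟩ : ∃ k : Fin (2 * m), (k : ℕ) = j := ⟨⟨j, by omega⟩, rfl⟩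
    have hk : (k : ℕ) + 1 = m := by omega
    have hlt : k < k.rev := by rw [Fin.lt_def, Fin.val_rev]; omega
    have hne : k ≠ k.rev := ne_of_lt hlt
    have hyH : tv k.rev k hne.symm (1 : F) ∈ SpH m F :=
      tv_rev_mem_SpH' k.rev k (Fin.rev_rev k).symm hne.symm _
    have hD := lowerL_mem_D hm hk hne hyH
    rw [hkj, mem_D] at hD
    obtain ⟨b, hb, b', hb', e⟩ := hD
    refine ⟨b, hb, b', hb', ?_⟩
    rw [← e, mem_BG]
    simp only [Subgroup.coe_mul, Subgroup.coe_inv]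
    have hnode : nodeOf m k ∈ K := by rw [hkj, nodeOf_of_lt hjm]; exact hj
    have hk2 : (k : ℕ) + 1 = (k.rev : Fin (2 * m)) := by rw [Fin.val_rev]; omega
    have hL : LabF m K k = LabF m K k.rev := (LabF_adj hk2 hnode).symm
    have hw := wK_inv_rev (F := F) K hlt hL
    obtain ⟨c', hc'⟩ := mono_conj_tv (nK_mono (F := F) K) k.rev k hne.symm (1 : F)
    rw [hc']
    exact tv_mem_upper hw c'

end Cfsg.Agent.Lib.Helper8.SpBN
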