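import Mathlib
import Cfsg.Agent.Lib.Helper8.SpBN.Split
import Cfsg.Agent.S0245

/-!
# The number of elements of `p`-power order of the symplectic group (helper8, for S2316)
-/

set_option autoImplicit false

namespace Cfsg.Agent.Lib.Helper8.SpBN

open Matrix Cfsg Cfsg.Agent.Lib.Helper5.GLBN Cfsg.Agent.Lib.Helper5.BN
open Cfsg.Agent.Lib.Helper5.Unip
open scoped MatrixGroups

variable {m : ℕ} {F : Type*} [Field F]

theorem LabF_range (i : Fin (2 * m)) : LabF m (Finset.range m) i = 0 := by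
  unfold LabF Lab
  rw [Finset.card_eq_zero, Finset.filter_eq_empty_iff]
  intro k hk
  rw [Finset.mem_range] at hk
  have hi := i.2
  rw [not_not, Finset.mem_range]
  unfold nodeOf
  split_ifs <;> omega

theorem UKG_range [Finite F] : UKG m F (Finset.range m) = ⊥ := by
  rw [eq_bot_iff]
  intro g hg
  rw [mem_UKG_iff] at hg
  rw [Subgroup.mem_bot]
  apply Subtype.ext
  apply Units.ext
  ext i j
  have := hg i j (by rw [LabF_range, LabF_range])
  rw [Matrix.sub_apply] at this
  rw [Subgroup.coe_one, Units.val_one]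
  exact sub_eq_zero.1 this

theorem sG_surj (hm : 0 < m) :
    ∀ x ∈ (spBN m F hm).S, ∃ j ∈ Finset.range m, x = sG m F j := by
  intro x hx
  rcases hx with ⟨k, k', hk, hk', e⟩ | ⟨k, hk, e⟩
  · refine ⟨(k : ℕ), Finset.mem_range.2 (by omega), ?_⟩
    apply Subtype.ext
    rw [sG_coe, sGL_short hk hk', e]
  · refine ⟨(k : ℕ), Finset.mem_range.2 (by omega), ?_⟩
    apply Subtype.ext
    rw [sG_coe, sGL_long hk, e]

/-- **The split (B,N)-pair data of the symplectic group.** -/
theorem splitData_sp [Finite F] (hm : 0 < m) (p : ℕ) [Fact p.Prime] [CharP F p] :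
    SplitData (spBN m F hm) p (Finset.range m) (sG m F) (UG m F) (UKG m F) (BKG m F) where
  s_mem := fun _ hj => sG_mem_S hm (Finset.mem_range.1 hj)
  s_surj := sG_surj hm
  U_le := UG_le_BG
  U_p := isPGroup_UG p
  U_idx := UG_index_not_dvd p
  U_normal := UG_normal
  p_mem := mem_UG_of_pElement p
  UK_le := fun _ _ => inf_le_left
  UK_le_BK := fun _ _ => inf_le_right
  BK_le := fun _ _ => inf_le_left
  UK_normal := fun K _ => UKG_normal hm K
  U_inf_BK := fun _ _ => le_refl _
  card_eq := fun K _ => card_BKG_mul hm K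
  longest := fun K hK => ⟨nK m F K, nK_mem K,
    fun _ hj => exists_descent hm K hj (Finset.mem_range.1 (hK hj)),
    fun _ hβ => ⟨fun h => mem_BKG.2 ⟨hβ, h⟩, fun h => (mem_BKG.1 h).2⟩⟩
  UK_top := UKG_range

theorem card_pElements_SpH [Finite F] (hm : 0 < m) (p : ℕ) [Fact p.Prime] [CharP F p] :
    Nat.card {g : ↥(SpH m F) // ∃ k : ℕ, orderOf g = p ^ k}
      = (p ^ (Nat.card ↥(SpH m F)).factorization p) ^ 2 := by
  rw [card_pElements (spBN m F hm) (splitData_sp hm p), card_UG p]

/-- the `p`-part of the order of the symplectic group -/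
theorem pPart_card_sp [Fintype F] (p : ℕ) [hp : Fact p.Prime] [CharP F p] (m : ℕ) :
    p ^ (Nat.card ↥(Matrix.symplecticGroup (Fin m) F)).factorization p
      = Fintype.card F ^ (m ^ 2) := by
  have hpp : p.Prime := hp.out
  obtain ⟨f, -, hf⟩ := FiniteField.card F p
  have hq1 : 1 < Fintype.card F := Fintype.one_lt_card
  have hpq : p ∣ Fintype.card F := by
    rw [hf]; exact dvd_pow_self p f.pos.ne'
  have hfac : ∀ i ∈ Finset.range m, ¬ p ∣ Fintype.card F ^ (2 * (i + 1)) - 1 := by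
    intro i _ h2
    have h3 : p ∣ Fintype.card F ^ (2 * (i + 1)) := dvd_pow hpq (by omega)
    have h4 : 1 ≤ Fintype.card F ^ (2 * (i + 1)) := Nat.one_le_pow _ _ (by omega)
    have h5 : p ∣ 1 := by
      have := Nat.dvd_sub h3 h2
      have e : Fintype.card F ^ (2 * (i + 1)) - (Fintype.card F ^ (2 * (i + 1)) - 1) = 1 := by
        omega
      rwa [e] at this
    exact hpp.one_lt.ne' (Nat.dvd_one.mp h5)
  have hR : ¬ p ∣ ∏ i ∈ Finset.range m, (Fintype.card F ^ (2 * (i + 1)) - 1) := by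
    intro h
    obtain ⟨i, hi, hdvd⟩ := (Prime.dvd_finsetProd_iff hpp.prime _).1 h
    exact hfac i hi hdvd
  have hR0 : (∏ i ∈ Finset.range m, (Fintype.card F ^ (2 * (i + 1)) - 1)) ≠ 0 := by
    intro h0
    apply hR
    rw [h0]
    exact dvd_zero p
  have hcard := Cfsg.Agent.S0245.result (F := F) rfl m
  have hcard' : Nat.card ↥(Matrix.symplecticGroup (Fin m) F)
      = Fintype.card F ^ (m ^ 2) * ∏ i ∈ Finset.range m, (Fintype.card F ^ (2 * (i + 1)) - 1) :=
    hcard
  rw [hcard', Nat.factorization_mul (pow_ne_zero _ (by omega)) hR0, Finsupp.add_apply,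
    Nat.factorization_eq_zero_of_not_dvd hR, add_zero]
  conv_lhs => rw [hf, ← pow_mul, hpp.factorization_pow, Finsupp.single_eq_same]
  rw [hf, ← pow_mul]

/-- **Steinberg's count for the symplectic group.** -/
theorem card_pElements_sp [Fintype F] (p : ℕ) [Fact p.Prime] [CharP F p] (m : ℕ) :
    Nat.card {g : ↥(Matrix.symplecticGroup (Fin m) F) // ∃ k : ℕ, orderOf g = p ^ k}
      = Fintype.card F ^ (2 * m ^ 2) := by
  rcases Nat.eq_zero_or_pos m with rfl | hm
  · have : Subsingleton ↥(Matrix.symplecticGroup (Fin 0) F) :=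
      ⟨fun a b => Subtype.ext (Subsingleton.elim _ _)⟩
    rw [Nat.card_of_subsingleton (⟨1, 0, by simp⟩ :
      {g : ↥(Matrix.symplecticGroup (Fin 0) F) // ∃ k : ℕ, orderOf g = p ^ k})]
    simp
  · have e : {g : ↥(Matrix.symplecticGroup (Fin m) F) // ∃ k : ℕ, orderOf g = p ^ k}
        ≃ {g : ↥(SpH m F) // ∃ k : ℕ, orderOf g = p ^ k} :=
      (spIso m F).toEquiv.subtypeEquiv (fun g => by
        show (∃ k : ℕ, orderOf g = p ^ k) ↔ ∃ k : ℕ, orderOf (spIso m F g) = p ^ k
        rw [(spIso m F).orderOf_eq])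
    rw [Nat.card_congr e, card_pElements_SpH hm p, ← Nat.card_congr (spIso m F).toEquiv,
      pPart_card_sp p m, ← pow_mul, mul_comm]

end Cfsg.Agent.Lib.Helper8.SpBN
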